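/-
helper84: project DSQW (statement S5248: saturated fusion systems over dihedral, generalized quaternion,
quasi-dihedral and wreathed 2-groups) - the common definitions.
All declarations live in `Cfsg.Agent.Lib.Helper84.DSQW`.
-/
import Mathlib
import Cfsg.Prelude.Def_FusionSystem
import Cfsg.Prelude.Def_CaseTheorems
import Cfsg.Agent.Lib.Helper84.FusionPullback

set_option autoImplicit false

namespace Cfsg.Agent.Lib.Helper84.DSQW

open Cfsg Cfsg.FusionSystem

/-- Among any three essential subgroups two are conjugate in the system. -/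
def TwoClasses {Ω : Type*} [Group Ω] {S : Subgroup Ω} (F : FusionSystem S) : Prop :=
  ∀ E₁ E₂ E₃ : Subgroup Ω, F.IsEssential 2 E₁ → F.IsEssential 2 E₂ → F.IsEssential 2 E₃ →
    (∃ φ ∈ F.Hom E₁, φ.range = E₂) ∨ (∃ φ ∈ F.Hom E₁, φ.range = E₃) ∨ (∃ φ ∈ F.Hom E₂, φ.range = E₃)

/-- `X = ⟨x⟩ ∪ ⟨x⟩ y` has order `2^(n+1)`, `x` has order `2^n` (`n ≥ 2`), and with `z = x^(2^(n-1))`:
`y x y⁻¹ = x⁻¹ z^η`, `y² = z^δ`. `(η, δ) = (0, 0)`: dihedral; `(0, 1)`: generalized quaternion of order at least 16;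
`(1, 0)`: quasi-dihedral (`n ≥ 3`). -/
structure MC {X : Type*} [Group X] (x y : X) (n η δ : ℕ) : Prop where
  hn : 2 ≤ n
  card : Nat.card X = 2 ^ (n + 1)
  ox : orderOf x = 2 ^ n
  hyx : y ∉ Subgroup.zpowers x
  conj : y * x * y⁻¹ = x⁻¹ * (x ^ 2 ^ (n - 1)) ^ η
  sq : y * y = (x ^ 2 ^ (n - 1)) ^ δ
  hη : η ≤ 1
  hδ : δ ≤ 1
  hsd : η = 1 → δ = 0 ∧ 3 ≤ n
  hq : δ = 1 → 3 ≤ n

/-- `w` is conjugate in the system (over the whole group `X`) to an element of `⟨x⟩`. -/
def fused {X : Type*} [Group X] (F : FusionSystem (⊤ : Subgroup X)) (x w : X) : Prop :=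
  ∃ φ ∈ F.Hom (Subgroup.zpowers w), φ ⟨w, Subgroup.mem_zpowers w⟩ ∈ Subgroup.zpowers x

/-- The homomorphism `⊤ →* G` attached to an isomorphism `e` of `X` onto the subgroup `T` of `G`. -/
def incl {X G : Type*} [Group X] [Group G] {T : Subgroup G} (e : X ≃* T) : (⊤ : Subgroup X) →* G :=
  T.subtype.comp (e.toMonoidHom.comp (Subgroup.topEquiv : (⊤ : Subgroup X) ≃* X).toMonoidHom)

theorem incl_apply {X G : Type*} [Group X] [Group G] {T : Subgroup G} (e : X ≃* T) (s : (⊤ : Subgroup X)) :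
    incl e s = ((e (s : X) : T) : G) := rfl

theorem incl_injective {X G : Type*} [Group X] [Group G] {T : Subgroup G} (e : X ≃* T) :
    Function.Injective (incl e) := by
  intro a b h
  have h1 : e (a : X) = e (b : X) := Subtype.ext h
  exact Subtype.ext (e.injective h1)

theorem incl_range {X G : Type*} [Group X] [Group G] {T : Subgroup G} (e : X ≃* T) :
    (incl e).range = T := by
  ext g
  constructor
  · rintro ⟨s, rfl⟩
    exact (e (s : X)).2
  · intro hg
    exact ⟨⟨e.symm ⟨g, hg⟩, Subgroup.mem_top _⟩, by rw [incl_apply]; simp⟩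

/-- The fusion system over the whole group `X` induced by `G` through `e : X ≃* T`. -/
noncomputable def pb {X G : Type*} [Group X] [Group G] {T : Subgroup G} (e : X ≃* T) :
    FusionSystem (⊤ : Subgroup X) :=
  Cfsg.Agent.Lib.Helper84.pullbackSystem (incl e) (incl_injective e)

end Cfsg.Agent.Lib.Helper84.DSQW
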