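/-
helper84: project DSQW - normal form and multiplication rules for the groups `MC x y n η δ`
(dihedral, generalized quaternion, quasi-dihedral 2-groups, uniformly).
Every element is `pw x n i` or `pw x n i * y` with `i : ZMod (2 ^ n)`, `pw x n i = x ^ i.val`.
All declarations live in `Cfsg.Agent.Lib.Helper84.DSQW`.
-/
import Mathlib
import Cfsg.Agent.Lib.Helper84.DSQW.Defs
import Cfsg.Agent.Lib.Helper20.QuasiDihedral

set_option autoImplicit false

namespace Cfsg.Agent.Lib.Helper84.DSQW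

open Cfsg Cfsg.Agent.Lib.Helper20.QD

variable {X : Type*} [Group X] {x y : X} {n η δ : ℕ}

/-- `pw x n i = x ^ i`. -/
def pw (x : X) (n : ℕ) (i : ZMod (2 ^ n)) : X := x ^ i.val

/-- the exponent of the action of `y` on `⟨x⟩`: `-1 + η 2^(n-1)` -/
def ee (n η : ℕ) : ZMod (2 ^ n) := (η : ZMod (2 ^ n)) * hf n - 1

namespace MC

theorem one_le_n (h : MC x y n η δ) : 1 ≤ n := le_trans (by norm_num) h.hn

theorem pow_eq_one (h : MC x y n η δ) : x ^ (2 ^ n) = 1 := by
  rw [← h.ox]; exact pow_orderOf_eq_one x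

theorem pw_natCast (h : MC x y n η δ) (k : ℕ) : pw x n (k : ZMod (2 ^ n)) = x ^ k := by
  unfold pw
  rw [ZMod.val_natCast, ← pow_eq_pow_mod k (pow_eq_one h)]

theorem pw_zero (h : MC x y n η δ) : pw x n 0 = 1 := by
  unfold pw; simp

theorem pw_add (h : MC x y n η δ) (i j : ZMod (2 ^ n)) : pw x n (i + j) = pw x n i * pw x n j := by
  unfold pw
  rw [ZMod.val_add, ← pow_eq_pow_mod _ (pow_eq_one h), pow_add]

theorem pw_neg (h : MC x y n η δ) (i : ZMod (2 ^ n)) : pw x n (-i) = (pw x n i)⁻¹ := by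
  rw [eq_inv_iff_mul_eq_one, ← pw_add h, neg_add_cancel, pw_zero h]

theorem pw_sub (h : MC x y n η δ) (i j : ZMod (2 ^ n)) : pw x n (i - j) = pw x n i * (pw x n j)⁻¹ := by
  rw [sub_eq_add_neg, pw_add h, pw_neg h]

theorem pw_pow (h : MC x y n η δ) (i : ZMod (2 ^ n)) (k : ℕ) :
    (pw x n i) ^ k = pw x n ((k : ZMod (2 ^ n)) * i) := by
  induction k with
  | zero => simp [pw_zero h]
  | succ k ih =>
    rw [pow_succ, ih, ← pw_add h]
    congr 1; push_cast; ring

theorem pw_one (h : MC x y n η δ) : pw x n 1 = x := by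
  have := pw_natCast h 1
  simpa using this

theorem pw_hf (h : MC x y n η δ) : pw x n (hf n) = x ^ 2 ^ (n - 1) := by
  unfold hf; exact pw_natCast h _

theorem pw_qt (h : MC x y n η δ) : pw x n (qt n) = x ^ 2 ^ (n - 2) := by
  unfold qt; exact pw_natCast h _

theorem pw_injective (h : MC x y n η δ) : Function.Injective (pw x n) := by
  intro i j hij
  unfold pw at hij
  have hi : i.val < orderOf x := by rw [h.ox]; exact ZMod.val_lt i
  have hj : j.val < orderOf x := by rw [h.ox]; exact ZMod.val_lt j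
  have := pow_injOn_Iio_orderOf (Set.mem_Iio.mpr hi) (Set.mem_Iio.mpr hj) hij
  exact ZMod.val_injective _ this

theorem pw_eq_one_iff (h : MC x y n η δ) (i : ZMod (2 ^ n)) : pw x n i = 1 ↔ i = 0 := by
  rw [← pw_zero h]; exact (pw_injective h).eq_iff

theorem pw_mem (i : ZMod (2 ^ n)) : pw x n i ∈ Subgroup.zpowers x :=
  Subgroup.pow_mem _ (Subgroup.mem_zpowers x) _

theorem finite (h : MC x y n η δ) : Finite X :=
  Nat.finite_of_card_ne_zero (by rw [h.card]; positivity)

theorem mem_zpowers_iff (h : MC x y n η δ) (s : X) : s ∈ Subgroup.zpowers x ↔ ∃ i, s = pw x n i := by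
  constructor
  · intro hs
    have := finite h
    rw [← mem_powers_iff_mem_zpowers] at hs
    obtain ⟨k, rfl⟩ := hs
    exact ⟨(k : ZMod (2 ^ n)), (pw_natCast h k).symm⟩
  · rintro ⟨i, rfl⟩
    exact pw_mem i

theorem index_zpowers (h : MC x y n η δ) : (Subgroup.zpowers x).index = 2 := by
  have hcardH : Nat.card (Subgroup.zpowers x) = 2 ^ n := by rw [Nat.card_zpowers, h.ox]
  have := (Subgroup.zpowers x).card_mul_index
  rw [hcardH, h.card, pow_succ] at this
  exact Nat.eq_of_mul_eq_mul_left (by positivity) this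

/-- `z = x ^ 2^(n-1)` squares to one. -/
theorem hf_add_hf (h : MC x y n η δ) : hf n + hf n = 0 := by
  have := two_mul_hf (one_le_n h)
  linear_combination this

theorem eta_cases (h : MC x y n η δ) : η = 0 ∨ η = 1 := by have := h.hη; omega

theorem delta_cases (h : MC x y n η δ) : δ = 0 ∨ δ = 1 := by have := h.hδ; omega

theorem zpow_eta (h : MC x y n η δ) : (x ^ 2 ^ (n - 1)) ^ η = pw x n ((η : ZMod (2 ^ n)) * hf n) := by
  rw [← pw_hf h, pw_pow h]

theorem zpow_delta (h : MC x y n η δ) : (x ^ 2 ^ (n - 1)) ^ δ = pw x n ((δ : ZMod (2 ^ n)) * hf n) := by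
  rw [← pw_hf h, pw_pow h]

/-- Conjugation by `y` on `⟨x⟩`. -/
theorem y_conj_x (h : MC x y n η δ) : y * x * y⁻¹ = pw x n (ee n η) := by
  rw [h.conj, zpow_eta h, ee, sub_eq_add_neg, add_comm, pw_add h, pw_neg h, pw_one h]

theorem y_conj_pw (h : MC x y n η δ) (i : ZMod (2 ^ n)) :
    y * pw x n i * y⁻¹ = pw x n (ee n η * i) := by
  have h1 : y * pw x n i * y⁻¹ = (y * x * y⁻¹) ^ i.val := by
    unfold pw; rw [conj_pow]
  rw [h1, y_conj_x h, pw_pow h, ZMod.natCast_zmod_val, mul_comm]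

theorem y_mul_pw (h : MC x y n η δ) (i : ZMod (2 ^ n)) :
    y * pw x n i = pw x n (ee n η * i) * y := by
  rw [← y_conj_pw h]; group

theorem y_sq (h : MC x y n η δ) : y * y = pw x n ((δ : ZMod (2 ^ n)) * hf n) := by
  rw [h.sq, zpow_delta h]

theorem ee_mul_ee (h : MC x y n η δ) : ee n η * ee n η = 1 := by
  unfold ee
  have h1 := two_mul_hf (one_le_n h)
  have h2 := hf_mul_hf h.hn
  linear_combination (η : ZMod (2 ^ n)) * (η : ZMod (2 ^ n)) * h2 - (η : ZMod (2 ^ n)) * h1

theorem ee_mul_hf (h : MC x y n η δ) : ee n η * hf n = hf n := by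
  unfold ee
  have h1 := two_mul_hf (one_le_n h)
  have h2 := hf_mul_hf h.hn
  linear_combination (η : ZMod (2 ^ n)) * h2 - h1

theorem pwy_ne_pw (h : MC x y n η δ) (i j : ZMod (2 ^ n)) : pw x n i * y ≠ pw x n j := by
  intro hij
  apply h.hyx
  have : y = pw x n (-i + j) := by
    rw [pw_add h, pw_neg h, ← hij]; group
  rw [this]; exact pw_mem _

theorem pwy_not_mem (h : MC x y n η δ) (i : ZMod (2 ^ n)) : pw x n i * y ∉ Subgroup.zpowers x := by
  intro hm
  obtain ⟨j, hj⟩ := (mem_zpowers_iff h _).1 hm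
  exact pwy_ne_pw h i j hj

/-- Every element is `pw i` or `pw i * y`. -/
theorem normal_form (h : MC x y n η δ) (s : X) :
    (∃ i, s = pw x n i) ∨ (∃ i, s = pw x n i * y) := by
  by_cases hs : s ∈ Subgroup.zpowers x
  · left; exact (mem_zpowers_iff h s).1 hs
  · right
    have hm : s * y⁻¹ ∈ Subgroup.zpowers x := by
      rw [Subgroup.mul_mem_iff_of_index_two (index_zpowers h)]
      exact ⟨fun hh => absurd hh hs, fun hh => absurd ((Subgroup.inv_mem_iff _).1 hh) h.hyx⟩
    obtain ⟨i, hi⟩ := (mem_zpowers_iff h _).1 hm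
    exact ⟨i, by rw [← hi]; group⟩

theorem not_mem_iff (h : MC x y n η δ) (s : X) : s ∉ Subgroup.zpowers x ↔ ∃ i, s = pw x n i * y := by
  constructor
  · intro hs
    rcases normal_form h s with ⟨i, hi⟩ | hi
    · exact absurd (hi ▸ pw_mem i) hs
    · exact hi
  · rintro ⟨i, rfl⟩
    exact pwy_not_mem h i

/-! ### Multiplication rules -/

theorem pwy_mul_pw (h : MC x y n η δ) (i j : ZMod (2 ^ n)) :
    (pw x n i * y) * pw x n j = pw x n (i + ee n η * j) * y := by
  rw [mul_assoc, y_mul_pw h, ← mul_assoc, ← pw_add h]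

theorem pwy_mul_pwy (h : MC x y n η δ) (i j : ZMod (2 ^ n)) :
    (pw x n i * y) * (pw x n j * y) = pw x n (i + ee n η * j + (δ : ZMod (2 ^ n)) * hf n) := by
  rw [← mul_assoc, pwy_mul_pw h, mul_assoc, y_sq h, ← pw_add h]

theorem pw_mul_pwy (h : MC x y n η δ) (i j : ZMod (2 ^ n)) :
    pw x n i * (pw x n j * y) = pw x n (i + j) * y := by
  rw [← mul_assoc, ← pw_add h]

/-- the square of an element outside `⟨x⟩` -/
theorem pwy_sq (h : MC x y n η δ) (i : ZMod (2 ^ n)) :
    (pw x n i * y) * (pw x n i * y) = pw x n (((η : ZMod (2 ^ n)) * i + (δ : ZMod (2 ^ n))) * hf n) := by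
  rw [pwy_mul_pwy h]; congr 1; unfold ee; ring

theorem pwy_inv (h : MC x y n η δ) (i : ZMod (2 ^ n)) :
    (pw x n i * y)⁻¹ = pw x n (-(ee n η * i) - (δ : ZMod (2 ^ n)) * hf n) * y := by
  rw [eq_comm, ← mul_eq_one_iff_eq_inv, pwy_mul_pwy h, pw_eq_one_iff h]
  ring

/-- conjugation of an outside element by a power of `x` -/
theorem conj_pw_pwy (h : MC x y n η δ) (k i : ZMod (2 ^ n)) :
    pw x n k * (pw x n i * y) * (pw x n k)⁻¹ = pw x n (i + (2 - (η : ZMod (2 ^ n)) * hf n) * k) * y := by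
  rw [← pw_neg h, pw_mul_pwy h, pwy_mul_pw h]
  congr 2; unfold ee; ring

/-- conjugation of an outside element by an outside element -/
theorem conj_pwy_pwy (h : MC x y n η δ) (k i : ZMod (2 ^ n)) :
    (pw x n k * y) * (pw x n i * y) * (pw x n k * y)⁻¹ =
      pw x n (ee n η * i + (2 - (η : ZMod (2 ^ n)) * hf n) * k) * y := by
  rw [pwy_inv h, pwy_mul_pwy h, pw_mul_pwy h]
  congr 2
  unfold ee; ring

/-- conjugation of a power of `x` by an outside element -/
theorem conj_pwy_pw (h : MC x y n η δ) (k i : ZMod (2 ^ n)) :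
    (pw x n k * y) * pw x n i * (pw x n k * y)⁻¹ = pw x n (ee n η * i) := by
  have : (pw x n k * y) * pw x n i * (pw x n k * y)⁻¹ =
      pw x n k * (y * pw x n i * y⁻¹) * (pw x n k)⁻¹ := by group
  rw [this, y_conj_pw h, ← pw_neg h, ← pw_add h, ← pw_add h]
  congr 1; ring

/-- `z = x^(2^(n-1))` is central. -/
theorem z_central (h : MC x y n η δ) (s : X) : s * pw x n (hf n) = pw x n (hf n) * s := by
  rcases normal_form h s with ⟨i, rfl⟩ | ⟨i, rfl⟩
  · rw [← pw_add h, ← pw_add h, add_comm]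
  · rw [pwy_mul_pw h, pw_mul_pwy h, ee_mul_hf h, add_comm]

end MC

end Cfsg.Agent.Lib.Helper84.DSQW
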