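/-
helper84: project DSQW, module [DHALF]: the groups `PGL₂(p)` (realized inside `Aut (SL₂(p))` with helper73's
machinery): dihedral Sylow 2-subgroups of every order, a normal subgroup of index two (`PSL₂(p)`) with a single class
of involutions.
All declarations live in `Cfsg.Agent.Lib.Helper84.DSQW`.
-/
import Mathlib
import Cfsg.Agent.Lib.Helper73.DSQWQD4d
import Cfsg.Agent.Lib.Helper42.DSQWTrans

set_option autoImplicit false

namespace Cfsg.Agent.Lib.Helper84.DSQW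

open Matrix Cfsg.Agent.Lib.Helper73.DSQW

/-- a finite cyclic group has at most one involution -/
theorem eq_of_involutions_of_isCyclic {H : Type*} [Group H] [Finite H] [IsCyclic H] {a b : H}
    (ha : a * a = 1) (hb : b * b = 1) (ha1 : a ≠ 1) (hb1 : b ≠ 1) : a = b := by
  classical
  have := Fintype.ofFinite H
  by_contra hab
  have h3 : ({1, a, b} : Finset H) ⊆ Finset.univ.filter (fun c => c ^ 2 = 1) := by
    intro c hc
    simp only [Finset.mem_insert, Finset.mem_singleton] at hc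
    rcases hc with rfl | rfl | rfl <;> simp [pow_two, ha, hb]
  have hcard : ({1, a, b} : Finset H).card = 3 := by
    rw [Finset.card_insert_of_notMem, Finset.card_insert_of_notMem, Finset.card_singleton]
    · simpa using hab
    · simp [Ne.symm ha1, Ne.symm hb1]
  have := (Finset.card_le_card h3).trans (IsCyclic.card_pow_eq_one_le (α := H) (n := 2) (by norm_num))
  omega

/-- the arithmetic conditions -/
theorem exists_prime_dparams (n : ℕ) (hn : 2 ≤ n) :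
    ∃ p : ℕ, p.Prime ∧ Odd p ∧ (∃ m, Odd m ∧ p - 1 = 2 ^ n * m) ∧
      (∃ M, Odd M ∧ p * (p ^ 2 - 1) = 2 ^ (n + 1) * M) := by
  have hcop : Nat.Coprime (1 + 2 ^ n) (2 ^ (n + 1)) := by
    apply Nat.Coprime.pow_right
    rw [Nat.coprime_two_right]
    exact ⟨2 ^ (n - 1), by
      have : n = n - 1 + 1 := by omega
      conv_lhs => rw [this, pow_succ]
      ring⟩
  obtain ⟨p, hgt, hp, hmod⟩ := Nat.forall_exists_prime_gt_and_modEq (1 + 2 ^ n) (by positivity) hcop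
  have hdvd : 2 ^ (n + 1) ∣ p - (1 + 2 ^ n) := (Nat.modEq_iff_dvd' hgt.le).1 hmod.symm
  obtain ⟨t, ht⟩ := hdvd
  set s := 1 + 2 * t with hs
  have hs_odd : Odd s := ⟨t, by rw [hs]; ring⟩
  have hp' : p = 1 + 2 ^ n * s := by
    have : p = (1 + 2 ^ n) + 2 ^ (n + 1) * t := by omega
    rw [this, hs, pow_succ]; ring
  obtain ⟨B, hB⟩ : ∃ B, 2 ^ n = 4 * B := ⟨2 ^ (n - 2), by
    have : n = n - 2 + 2 := by omega
    conv_lhs => rw [this, pow_add]
    ring⟩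
  set u := 1 + 2 * (B * s) with hu
  have hu_odd : Odd u := ⟨B * s, by rw [hu]; ring⟩
  have hp_odd : Odd p := ⟨2 * B * s, by rw [hp', hB]; ring⟩
  refine ⟨p, hp, hp_odd, ⟨s, hs_odd, by rw [hp']; simp⟩, ⟨p * (s * u), hp_odd.mul (hs_odd.mul hu_odd), ?_⟩⟩
  have h2n1 : 2 ^ (n + 1) = 8 * B := by rw [pow_succ, hB]; ring
  have h1 : p ^ 2 - 1 = 2 ^ (n + 1) * (s * u) := by
    apply Nat.sub_eq_of_eq_add
    rw [hp', hu, h2n1, hB]; ring
  rw [h1]; ring

section field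

variable {K : Type*} [Field K] [Fintype K] (p : ℕ) [Fact p.Prime] [CharP K p]

local notation "SL2" => Matrix.SpecialLinearGroup (Fin 2) K

omit [Fintype K] in
theorem tw_sq_mem_Inn (ζ : Kˣ) : tw ζ * tw ζ ∈ Cfsg.Agent.Lib.Helper73.DSQW.Inn (K := K) := by
  rw [tw_mul, ← sq, ← conj_dg]
  exact ⟨_, rfl⟩

theorem tw_not_mem_Inn (hodd : Odd p) {n m : ℕ} (hn : 1 ≤ n) (hm : Odd m)
    (hcard : Fintype.card K - 1 = 2 ^ n * m) (ζ : Kˣ) (hζ : orderOf ζ = 2 ^ n) : tw ζ ∉ Cfsg.Agent.Lib.Helper73.DSQW.Inn (K := K) := by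
  rintro ⟨B, hB⟩
  rw [conj_eq_iff] at hB
  have h1 := hB (uu 1)
  rw [tw_uu, mul_one] at h1
  have e11 := congrArg (fun A : SL2 => A.1 1 1) h1
  have e01 := congrArg (fun A : SL2 => A.1 0 1) h1
  simp only [mul_11, mul_01] at e11 e01
  simp only [uu, mk2_00, mk2_01, mk2_10, mk2_11] at e11 e01
  have hc : B.1 1 0 = 0 := by linear_combination e11
  have ha : B.1 0 0 = ζ * B.1 1 1 := by linear_combination e01
  have hdet := sl2_det B
  rw [hc, ha] at hdet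
  have hd : (ζ : K) * B.1 1 1 ^ 2 = 1 := by linear_combination hdet
  have hd0 : B.1 1 1 ≠ 0 := by
    intro h0
    rw [h0] at hd
    simp at hd
  have h3 : (ζ : K) ^ (2 ^ (n - 1) * m) = -1 := by
    rw [← Units.val_pow_eq_pow_val, pow_mul, pow_half_eq_neg_one (by omega) ζ hζ, hm.neg_one_pow,
      Units.val_neg, Units.val_one]
  have h4 : (ζ : K) = (B.1 1 1)⁻¹ ^ 2 := by
    field_simp
    linear_combination hd
  have h5 : (ζ : K) ^ (2 ^ (n - 1) * m) = 1 := by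
    rw [h4, ← pow_mul, ← mul_assoc, ← pow_succ', show n - 1 + 1 = n by omega, ← hcard]
    exact FiniteField.pow_card_sub_one_eq_one (B.1 1 1)⁻¹ (inv_ne_zero hd0)
  rw [h5] at h3
  apply two_ne_zero_of_odd (K := K) p hodd
  linear_combination h3

omit [Fintype K] in
theorem orderOf_tw (ζ : Kˣ) : orderOf (tw ζ) = orderOf ζ :=
  orderOf_injective (twHom (K := K)) tw_injective ζ

omit [Fintype K] in
theorem YY_conj_tw (ζ : Kˣ) : (YY (K := K)) * tw ζ * YY⁻¹ = (tw ζ)⁻¹ := by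
  unfold YY
  rw [conj_JJ_mul_tw, mul_inv_cancel_right]
  exact (twHom (K := K)).map_inv ζ

end field

/-- **[DHALF]** -/
theorem exists_group_dihedral_half (n : ℕ) (hn : 2 ≤ n) :
    ∃ (G : Type) (_ : Group G) (_ : Finite G) (T : Sylow 2 G) (N : Subgroup G),
      N.Normal ∧ N.index = 2 ∧ Nonempty ((T : Subgroup G) ≃* DihedralGroup (2 ^ n)) ∧
      ¬ IsCyclic ↥((T : Subgroup G) ⊓ N) ∧
      ∀ a b : G, a ∈ N → b ∈ N → orderOf a = 2 → orderOf b = 2 → IsConj a b := by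
  obtain ⟨p, hp, hodd, ⟨m, hm_odd, hm⟩, ⟨M, hM_odd, hM⟩⟩ := exists_prime_dparams n hn
  have : Fact p.Prime := ⟨hp⟩
  have : NeZero (2 ^ n) := ⟨by positivity⟩
  have hK : Fintype.card (ZMod p) = p := ZMod.card p
  have h2 : (2 : ZMod p) ≠ 0 := two_ne_zero_of_odd p hodd
  -- an element of order `2 ^ n`
  obtain ⟨ζ, hζ⟩ : ∃ ζ : (ZMod p)ˣ, orderOf ζ = 2 ^ n := by
    classical
    obtain ⟨g, hg⟩ := IsCyclic.exists_generator (α := (ZMod p)ˣ)
    have hord : orderOf g = 2 ^ n * m := by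
      rw [orderOf_eq_card_of_forall_mem_zpowers hg, Nat.card_eq_fintype_card, Fintype.card_units, hK, hm]
    have hm0 : m ≠ 0 := by
      rintro rfl
      exact absurd hm_odd (by decide)
    refine ⟨g ^ m, ?_⟩
    rw [orderOf_pow_of_dvd hm0 (by rw [hord]; exact Dvd.intro_left _ rfl), hord,
      Nat.mul_div_cancel _ (Nat.pos_of_ne_zero hm0)]
  have hθ2 : tw ζ * tw ζ ∈ Cfsg.Agent.Lib.Helper73.DSQW.Inn (K := ZMod p) := tw_sq_mem_Inn ζ
  have hθN : tw ζ ∉ Cfsg.Agent.Lib.Helper73.DSQW.Inn (K := ZMod p) :=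
    tw_not_mem_Inn p hodd (by omega) hm_odd (by rw [hK]; exact hm) ζ hζ
  -- the two generators
  have hoc : orderOf (⟨tw ζ, self_mem_ext2 hθ2⟩ : ext2 Cfsg.Agent.Lib.Helper73.DSQW.Inn (tw ζ) hθ2) = 2 ^ n := by
    rw [Subgroup.orderOf_mk, orderOf_tw, hζ]
  have how : orderOf (⟨YY, le_ext2 hθ2 YY_mem_Inn⟩ : ext2 Cfsg.Agent.Lib.Helper73.DSQW.Inn (tw ζ) hθ2) = 2 := by
    rw [Subgroup.orderOf_mk]
    exact orderOf_YY
  generalize hc'def : (⟨tw ζ, self_mem_ext2 hθ2⟩ : ext2 Cfsg.Agent.Lib.Helper73.DSQW.Inn (tw ζ) hθ2) = c' at hoc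
  generalize hw'def : (⟨YY, le_ext2 hθ2 YY_mem_Inn⟩ : ext2 Cfsg.Agent.Lib.Helper73.DSQW.Inn (tw ζ) hθ2) = w' at how
  have hc'v : (c' : MulAut (Matrix.SpecialLinearGroup (Fin 2) (ZMod p))) = tw ζ := by rw [← hc'def]
  have hw'v : (w' : MulAut (Matrix.SpecialLinearGroup (Fin 2) (ZMod p))) = YY := by rw [← hw'def]
  have hcpow : c' ^ 2 ^ n = 1 := by rw [← hoc]; exact pow_orderOf_eq_one c'
  have hwsq : w' * w' = 1 := by
    have := pow_orderOf_eq_one w'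
    rwa [how, pow_two] at this
  have hconj : w' * c' * w'⁻¹ = c'⁻¹ := by
    apply Subtype.ext
    rw [Subgroup.coe_mul, Subgroup.coe_mul, Subgroup.coe_inv, Subgroup.coe_inv, hc'v, hw'v]
    exact YY_conj_tw ζ
  have h4 : 2 ^ 2 ≤ 2 ^ n := Nat.pow_le_pow_right (by norm_num) hn
  have hwc : w' ∉ Subgroup.zpowers c' := by
    intro hmem
    obtain ⟨k, hk⟩ := hmem
    have hcomm : w' * c' = c' * w' := by
      rw [← hk]
      exact (Commute.zpow_left (Commute.refl c') k).eq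
    have h5 : c' = c'⁻¹ := by
      rw [← hconj, hcomm, mul_inv_cancel_right]
    have h6 : c' ^ 2 = 1 := by
      rw [pow_two]
      nth_rewrite 2 [h5]
      exact mul_inv_cancel c'
    have := orderOf_dvd_of_pow_eq_one h6
    rw [hoc] at this
    have := Nat.le_of_dvd (by norm_num) this
    omega
  -- the dihedral subgroup
  have hinj := Cfsg.Agent.Lib.Helper42.DSQWTrans.dihHom_injective (2 ^ n) c' w' hcpow hwsq hconj hoc hwc
  set f := Cfsg.Agent.Lib.Helper42.DSQWTrans.dihHom (2 ^ n) c' w' hcpow hwsq hconj with hf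
  have hcardT₀ : Nat.card f.range = 2 ^ (n + 1) := by
    rw [← Nat.card_congr (MonoidHom.ofInjective hinj).toEquiv, Nat.card_eq_fintype_card, DihedralGroup.card,
      pow_succ]
    ring
  have hP : IsPGroup 2 f.range := IsPGroup.of_card hcardT₀
  obtain ⟨T, hT⟩ := hP.exists_le_sylow
  have hcard : Nat.card (ext2 Cfsg.Agent.Lib.Helper73.DSQW.Inn (tw ζ) hθ2) = 2 ^ (n + 1) * M := by
    rw [card_ext2 hθ2 hθN, card_Inn h2, Cfsg.Agent.Lib.Helper5.card_SL2, hK, hM]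
  have hTcard : Nat.card (T : Subgroup (ext2 Cfsg.Agent.Lib.Helper73.DSQW.Inn (tw ζ) hθ2)) = 2 ^ (n + 1) :=
    Cfsg.Agent.Lib.Helper84.card_sylow_two_of_card_eq T (n + 1) M hM_odd hcard
  have hTeq : f.range = (T : Subgroup (ext2 Cfsg.Agent.Lib.Helper73.DSQW.Inn (tw ζ) hθ2)) :=
    Subgroup.eq_of_le_of_card_ge hT (by rw [hTcard, hcardT₀])
  have hcT : c' ∈ (T : Subgroup (ext2 Cfsg.Agent.Lib.Helper73.DSQW.Inn (tw ζ) hθ2)) := by
    rw [← hTeq]
    exact ⟨DihedralGroup.r 1, by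
      rw [hf, Cfsg.Agent.Lib.Helper42.DSQWTrans.dihHom_r, ZMod.val_one'' (by omega), pow_one]⟩
  have hwT : w' ∈ (T : Subgroup (ext2 Cfsg.Agent.Lib.Helper73.DSQW.Inn (tw ζ) hθ2)) := by
    rw [← hTeq]
    exact ⟨DihedralGroup.sr 0, by
      rw [hf, Cfsg.Agent.Lib.Helper42.DSQWTrans.dihHom_sr, ZMod.val_zero, pow_zero, mul_one]⟩
  refine ⟨ext2 Cfsg.Agent.Lib.Helper73.DSQW.Inn (tw ζ) hθ2, inferInstance, inferInstance, T,
    Cfsg.Agent.Lib.Helper73.DSQW.Inn.subgroupOf (ext2 Cfsg.Agent.Lib.Helper73.DSQW.Inn (tw ζ) hθ2), inferInstance, index_subgroupOf_ext2 hθ2 hθN,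
    ⟨(MulEquiv.subgroupCongr hTeq.symm).trans (MonoidHom.ofInjective hinj).symm⟩, ?_, ?_⟩
  · -- two distinct involutions in `T ⊓ N`
    intro hcyc
    have hfin : Finite ↥((T : Subgroup (ext2 Cfsg.Agent.Lib.Helper73.DSQW.Inn (tw ζ) hθ2)) ⊓ Cfsg.Agent.Lib.Helper73.DSQW.Inn.subgroupOf (ext2 Cfsg.Agent.Lib.Helper73.DSQW.Inn (tw ζ) hθ2)) :=
      inferInstance
    have hwN : w' ∈ Cfsg.Agent.Lib.Helper73.DSQW.Inn.subgroupOf (ext2 Cfsg.Agent.Lib.Helper73.DSQW.Inn (tw ζ) hθ2) := by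
      rw [Subgroup.mem_subgroupOf, hw'v]; exact YY_mem_Inn
    have hvN : c' ^ 2 ^ (n - 1) ∈ Cfsg.Agent.Lib.Helper73.DSQW.Inn.subgroupOf (ext2 Cfsg.Agent.Lib.Helper73.DSQW.Inn (tw ζ) hθ2) := by
      rw [Subgroup.mem_subgroupOf, Subgroup.coe_pow, hc'v, tw_pow]
      have : ζ ^ 2 ^ (n - 1) = (ζ ^ 2 ^ (n - 2)) ^ 2 := by
        rw [← pow_mul, ← pow_succ]
        congr 2
        omega
      rw [this, ← conj_dg]
      exact ⟨_, rfl⟩
    have hvT : c' ^ 2 ^ (n - 1) ∈ (T : Subgroup (ext2 Cfsg.Agent.Lib.Helper73.DSQW.Inn (tw ζ) hθ2)) := Subgroup.pow_mem _ hcT _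
    have hv2 : c' ^ 2 ^ (n - 1) * c' ^ 2 ^ (n - 1) = 1 := by
      rw [← pow_add, ← two_mul, ← pow_succ', show n - 1 + 1 = n by omega]
      exact hcpow
    have hv1 : c' ^ 2 ^ (n - 1) ≠ 1 := by
      intro h
      have := orderOf_dvd_of_pow_eq_one h
      rw [hoc] at this
      have h3 := Nat.le_of_dvd (by positivity) this
      have h4 : 2 ^ (n - 1) < 2 ^ n := Nat.pow_lt_pow_right (by norm_num) (by omega)
      omega
    have hw1 : w' ≠ 1 := by
      intro h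
      rw [h, orderOf_one] at how
      omega
    have key := eq_of_involutions_of_isCyclic
      (a := (⟨w', hwT, hwN⟩ : ↥((T : Subgroup (ext2 Cfsg.Agent.Lib.Helper73.DSQW.Inn (tw ζ) hθ2)) ⊓ Cfsg.Agent.Lib.Helper73.DSQW.Inn.subgroupOf (ext2 Cfsg.Agent.Lib.Helper73.DSQW.Inn (tw ζ) hθ2))))
      (b := ⟨c' ^ 2 ^ (n - 1), hvT, hvN⟩)
      (Subtype.ext hwsq) (Subtype.ext hv2) (fun h => hw1 (congrArg Subtype.val h))
      (fun h => hv1 (congrArg Subtype.val h))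
    apply hwc
    have : w' = c' ^ 2 ^ (n - 1) := congrArg Subtype.val key
    rw [this]
    exact Subgroup.pow_mem _ (Subgroup.mem_zpowers c') _
  · intro a b ha hb hoa hob
    exact isConj_of_involution_Inn h2 _ (le_ext2 hθ2) a b (Subgroup.mem_subgroupOf.1 ha)
      (Subgroup.mem_subgroupOf.1 hb) hoa hob

end Cfsg.Agent.Lib.Helper84.DSQW
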