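/-
helper84: project DSQW - saturated fusion systems over the groups `MC x y n η δ` (dihedral, generalized quaternion,
quasi-dihedral): at most two classes of essential subgroups, and the system is determined by which elements outside
`⟨x⟩` are fused into `⟨x⟩`.
All declarations live in `Cfsg.Agent.Lib.Helper84.DSQW`.
-/
import Mathlib
import Cfsg.Agent.Lib.Helper84.DSQW.MCBasic
import Cfsg.Agent.Lib.Helper84.FTr.Derived
import Cfsg.Agent.Lib.Helper87.FusionCore
import Cfsg.Agent.Lib.Helper84.Alperin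
import Cfsg.Agent.Lib.Helper13.DSQWAgx
import Cfsg.Agent.Lib.Helper13.DSQWConjAut
import Cfsg.Agent.Lib.Helper23.DSQWMCOut
import Cfsg.Agent.Lib.Helper42.DSQWMem
import Cfsg.Agent.Lib.Helper42.DSQWTrans
import Cfsg.Agent.Lib.Helper54.DSQWEssBasic
import Cfsg.Agent.Lib.Helper66.DSQWAutTop
import Cfsg.Agent.Lib.Helper87.DSQWAut
import Cfsg.Agent.Lib.Helper87.DSQWCand
import Cfsg.Agent.Lib.Helper86.DSQW.MCRigid

set_option autoImplicit false

namespace Cfsg.Agent.Lib.Helper84.DSQW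

open Cfsg Cfsg.FusionSystem Cfsg.Agent.Lib.Helper84 Cfsg.Agent.Lib.Helper87
open Cfsg.Agent.Lib.Helper13.DSQW Cfsg.Agent.Lib.Helper23.DSQWOut Cfsg.Agent.Lib.Helper54.DSQW
open Cfsg.Agent.Lib.Helper66.DSQWAutTop

variable {X : Type*} [Group X]

/-! ### generalities over the whole group -/

theorem isPGroup_top (hX : IsPGroup 2 X) : IsPGroup 2 ↥(⊤ : Subgroup X) := hX.to_subgroup ⊤

theorem autGroup_top [Finite X] (hX : IsPGroup 2 X) (hA : IsPGroup 2 (MulAut X))
    (F : FusionSystem (⊤ : Subgroup X)) (hF : F.IsSaturated 2) : F.autGroup ⊤ = Inn ↥(⊤ : Subgroup X) := by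
  have : Fact (Nat.Prime 2) := ⟨Nat.prime_two⟩
  exact autGroup_top_eq_inn F (isPGroup_top hX) hF
    (hA.of_equiv (MulAut.congr (Subgroup.topEquiv : ↥(⊤ : Subgroup X) ≃* X).symm))

theorem fused_conj {F : FusionSystem (⊤ : Subgroup X)} {x w : X} (h : fused F x w) (g : X) :
    fused F x (g * w * g⁻¹) := by
  obtain ⟨φ, hφ, hφx⟩ := h
  have hψ : conjHom (Subgroup.zpowers (g * w * g⁻¹)) g⁻¹ ∈ F.Hom (Subgroup.zpowers (g * w * g⁻¹)) :=
    F.conj_mem le_top (Subgroup.mem_top _)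
  have hval : ∀ u : Subgroup.zpowers (g * w * g⁻¹),
      conjHom (Subgroup.zpowers (g * w * g⁻¹)) g⁻¹ u ∈ Subgroup.zpowers w := by
    rintro ⟨_, k, rfl⟩
    refine ⟨k, ?_⟩
    show w ^ k = g⁻¹ * (g * w * g⁻¹) ^ k * g⁻¹⁻¹
    rw [conj_zpow]
    group
  let χ : Subgroup.zpowers (g * w * g⁻¹) →* X :=
    φ.comp ((conjHom (Subgroup.zpowers (g * w * g⁻¹)) g⁻¹).codRestrict _ hval)
  have hχ : χ ∈ F.Hom (Subgroup.zpowers (g * w * g⁻¹)) := F.comp_mem hψ hφ hval
  refine ⟨χ, hχ, ?_⟩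
  have h1 : ((conjHom (Subgroup.zpowers (g * w * g⁻¹)) g⁻¹).codRestrict _ hval)
      ⟨g * w * g⁻¹, Subgroup.mem_zpowers _⟩ = ⟨w, Subgroup.mem_zpowers w⟩ := by
    apply Subtype.ext
    show g⁻¹ * (g * w * g⁻¹) * g⁻¹⁻¹ = w
    group
  show φ _ ∈ _
  rw [h1]
  exact hφx

theorem fused_of_isConj {F : FusionSystem (⊤ : Subgroup X)} {x w w' : X} (h : fused F x w) (hc : IsConj w w') :
    fused F x w' := by
  obtain ⟨c, hc⟩ := isConj_iff.1 hc
  rw [← hc]
  exact fused_conj h c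

/-! ### families of candidate subgroups -/

/-- A family `w ↦ Ecl w` of subgroups attached to the elements `w` outside `⟨x⟩` with `C w`. -/
structure CandFam (x : X) (C : X → Prop) (Ecl : X → Subgroup X) : Prop where
  conjC : ∀ w g, C w → C (g * w * g⁻¹)
  mem_self : ∀ w, w ∈ Ecl w
  rigid : ∀ w, w ∉ Subgroup.zpowers x → C w → ∀ K : Subgroup (MulAut (Ecl w)),
    autInducedBy ⊤ (Ecl w) ≤ K → ¬ IsPGroup 2 K → K = ⊤
  trans : ∀ w, w ∉ Subgroup.zpowers x → C w → ∃ α : MulAut (Ecl w), ∀ u : Ecl w, (u : X) = w →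
    ((α u : Ecl w) : X) ∈ Subgroup.zpowers x
  map : ∀ w g, (Ecl w).map (MulAut.conj g).toMonoidHom = Ecl (g * w * g⁻¹)
  mem : ∀ w, w ∉ Subgroup.zpowers x → C w → ∀ u ∈ Ecl w, u ∉ Subgroup.zpowers x → IsConj u w

variable {x : X} {C : X → Prop} {Ecl : X → Subgroup X}

theorem CandFam.autGroup_eq_top (fam : CandFam x C Ecl) (F : FusionSystem (⊤ : Subgroup X)) {w : X}
    (hw : w ∉ Subgroup.zpowers x) (hC : C w) (hact : ¬ IsPGroup 2 (F.autGroup (Ecl w))) :
    F.autGroup (Ecl w) = ⊤ :=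
  fam.rigid w hw hC _ (autInducedBy_le_autGroup F le_top) hact

/-- an active candidate subgroup fuses its generator into `⟨x⟩` -/
theorem CandFam.fused_of_active (fam : CandFam x C Ecl) (F : FusionSystem (⊤ : Subgroup X)) {w : X}
    (hw : w ∉ Subgroup.zpowers x) (hC : C w) (hact : ¬ IsPGroup 2 (F.autGroup (Ecl w))) : fused F x w := by
  have htop := fam.autGroup_eq_top F hw hC hact
  obtain ⟨α, hα⟩ := fam.trans w hw hC
  have hαF : α ∈ F.autGroup (Ecl w) := by rw [htop]; trivial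
  have hmem := (mem_autGroup_iff F le_top).1 hαF
  have hle : Subgroup.zpowers w ≤ Ecl w := Subgroup.zpowers_le.2 (fam.mem_self w)
  refine ⟨_, restrict_mem F hmem hle, ?_⟩
  exact hα _ rfl

/-! ### the two families in `MC` -/

variable {y : X} {n η δ : ℕ}

open Cfsg.Agent.Lib.Helper20.QD

theorem MC.z_ne_one (h : MC x y n η δ) : x ^ 2 ^ (n - 1) ≠ 1 := by
  rw [← MC.pw_hf h, Ne, MC.pw_eq_one_iff h]
  exact hf_ne_zero (MC.one_le_n h)

theorem MC.z_comm (h : MC x y n η δ) (s : X) : s * x ^ 2 ^ (n - 1) = x ^ 2 ^ (n - 1) * s := by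
  rw [← MC.pw_hf h]; exact MC.z_central h s

theorem MC.zpowers_normal (h : MC x y n η δ) : (Subgroup.zpowers x).Normal :=
  Subgroup.normal_of_index_eq_two (MC.index_zpowers h)

theorem MC.conj_not_mem (h : MC x y n η δ) {w : X} (hw : w ∉ Subgroup.zpowers x) (g : X) :
    g * w * g⁻¹ ∉ Subgroup.zpowers x := by
  have := MC.zpowers_normal h
  intro hm
  apply hw
  have := this.conj_mem _ hm g⁻¹
  simpa [mul_assoc] using this

theorem MC.fam4 (h : MC x y n η δ) :
    CandFam x (fun w => w * w = 1) (fun w => Subgroup.closure {x ^ 2 ^ (n - 1), w}) where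
  conjC := by
    intro w g hw
    show g * w * g⁻¹ * (g * w * g⁻¹) = 1
    have : g * w * g⁻¹ * (g * w * g⁻¹) = g * (w * w) * g⁻¹ := by group
    rw [this, hw]; group
  mem_self := fun w => Subgroup.subset_closure (by simp)
  rigid := fun w hw hC K hU hK => Cfsg.Agent.Lib.Helper86.DSQW.MC.eq_top_of_four h w hw hC K hU hK
  trans := by
    intro w hw hC
    obtain ⟨α, hα⟩ := MC.exists_aut_four h w hw hC
    refine ⟨α, fun u hu => ?_⟩
    rw [hα u hu]
    exact Subgroup.pow_mem _ (Subgroup.mem_zpowers x) _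
  map := fun w g => MC.map_conj_four h w g
  mem := fun w hw hC u hu hux => MC.isConj_of_mem_four h w hw hC u hu hux

theorem MC.famQ (h : MC x y n η δ) :
    CandFam x (fun w => w * w = x ^ 2 ^ (n - 1) ∧ 3 ≤ n) (fun w => Subgroup.closure {x ^ 2 ^ (n - 2), w}) where
  conjC := by
    rintro w g ⟨hw, hn⟩
    refine ⟨?_, hn⟩
    have : g * w * g⁻¹ * (g * w * g⁻¹) = g * (w * w) * g⁻¹ := by group
    rw [this, hw, MC.z_comm h g]; group
  mem_self := fun w => Subgroup.subset_closure (by simp)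
  rigid := fun w hw hC K hU hK => Cfsg.Agent.Lib.Helper86.DSQW.MC.eq_top_of_quat h hC.2 w hw hC.1 K hU hK
  trans := by
    intro w hw hC
    obtain ⟨α, hα⟩ := MC.exists_aut_quat h hC.2 w hw hC.1
    refine ⟨α, fun u hu => ?_⟩
    rw [hα u hu]
    exact Subgroup.pow_mem _ (Subgroup.mem_zpowers x) _
  map := fun w g => MC.map_conj_quat h w g
  mem := fun w hw hC u hu hux => MC.isConj_of_mem_quat h hC.2 w hw hC.1 u hu hux

/-! ### candidates -/

/-- `E` is the candidate subgroup attached to the element `w` outside `⟨x⟩`. -/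
def Cand (x : X) (n : ℕ) (E : Subgroup X) (w : X) : Prop :=
  w ∉ Subgroup.zpowers x ∧
    ((w * w = 1 ∧ E = Subgroup.closure {x ^ 2 ^ (n - 1), w}) ∨
     ((w * w = x ^ 2 ^ (n - 1) ∧ 3 ≤ n) ∧ E = Subgroup.closure {x ^ 2 ^ (n - 2), w}))

variable {E E' : Subgroup X} {w : X}

theorem MC.cand_mem (h : MC x y n η δ) (hc : Cand x n E w) : w ∈ E := by
  rcases hc.2 with ⟨_, rfl⟩ | ⟨_, rfl⟩
  · exact (MC.fam4 h).mem_self w
  · exact (MC.famQ h).mem_self w

theorem MC.cand_isConj (h : MC x y n η δ) (hc : Cand x n E w) {u : X} (hu : u ∈ E)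
    (hux : u ∉ Subgroup.zpowers x) : IsConj u w := by
  rcases hc.2 with ⟨hC, rfl⟩ | ⟨hC, rfl⟩
  · exact (MC.fam4 h).mem w hc.1 hC u hu hux
  · exact (MC.famQ h).mem w hc.1 hC u hu hux

theorem MC.cand_conj (h : MC x y n η δ) (hc : Cand x n E w) (g : X) :
    Cand x n (E.map (MulAut.conj g).toMonoidHom) (g * w * g⁻¹) := by
  refine ⟨MC.conj_not_mem h hc.1 g, ?_⟩
  rcases hc.2 with ⟨hC, rfl⟩ | ⟨hC, rfl⟩
  · exact Or.inl ⟨(MC.fam4 h).conjC w g hC, (MC.fam4 h).map w g⟩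
  · exact Or.inr ⟨(MC.famQ h).conjC w g hC, (MC.famQ h).map w g⟩

theorem MC.cand_unique (h : MC x y n η δ) (hc : Cand x n E w) (hc' : Cand x n E' w) : E = E' := by
  rcases hc.2 with ⟨hC, rfl⟩ | ⟨hC, rfl⟩ <;> rcases hc'.2 with ⟨hC', rfl⟩ | ⟨hC', rfl⟩
  · rfl
  · exact absurd (hC'.1.symm.trans hC) (MC.z_ne_one h)
  · exact absurd (hC.1.symm.trans hC') (MC.z_ne_one h)
  · rfl

theorem MC.cand_top (h : MC x y n η δ) (F : FusionSystem (⊤ : Subgroup X)) (hc : Cand x n E w)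
    (hact : ¬ IsPGroup 2 (F.autGroup E)) : F.autGroup E = ⊤ := by
  rcases hc.2 with ⟨hC, rfl⟩ | ⟨hC, rfl⟩
  · exact (MC.fam4 h).autGroup_eq_top F hc.1 hC hact
  · exact (MC.famQ h).autGroup_eq_top F hc.1 hC hact

theorem MC.cand_fused (h : MC x y n η δ) (F : FusionSystem (⊤ : Subgroup X)) (hc : Cand x n E w)
    (hact : ¬ IsPGroup 2 (F.autGroup E)) : fused F x w := by
  rcases hc.2 with ⟨hC, rfl⟩ | ⟨hC, rfl⟩
  · exact (MC.fam4 h).fused_of_active F hc.1 hC hact
  · exact (MC.famQ h).fused_of_active F hc.1 hC hact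

theorem MC.isPGroup (h : MC x y n η δ) : IsPGroup 2 X := IsPGroup.of_card h.card

theorem MC.exists_cand (h : MC x y n η δ) (F : FusionSystem (⊤ : Subgroup X)) (hF : F.IsSaturated 2)
    (hE : F.IsEssential 2 E) : ∃ w, Cand x n E w ∧ ¬ IsPGroup 2 (F.autGroup E) := by
  have : Fact (Nat.Prime 2) := ⟨Nat.prime_two⟩
  have := MC.finite h
  obtain ⟨-, hne, -, hact⟩ := essential_basic F (isPGroup_top (MC.isPGroup h)) hF hE
  have hA : ¬ IsPGroup 2 (MulAut E) := fun hA => hact (hA.to_subgroup _)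
  obtain ⟨w, hw, hw'⟩ := MC.cand h E hne hA
  refine ⟨w, ⟨hw, ?_⟩, hact⟩
  rcases hw' with ⟨h1, h2⟩ | ⟨h1, h2, h3⟩
  · exact Or.inl ⟨h1, h2⟩
  · exact Or.inr ⟨⟨h1, h2⟩, h3⟩

/-- an element outside `⟨x⟩` that is fused into `⟨x⟩` has an active candidate subgroup -/
theorem MC.active_of_fused (h : MC x y n η δ) (F : FusionSystem (⊤ : Subgroup X)) (hF : F.IsSaturated 2)
    (hc : Cand x n E w) (hf : fused F x w) : ¬ IsPGroup 2 (F.autGroup E) := by
  intro hP
  have : Fact (Nat.Prime 2) := ⟨Nat.prime_two⟩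
  have hfin := MC.finite h
  have hX := MC.isPGroup h
  have hnor := MC.zpowers_normal h
  have key := closed_of_essential F (isPGroup_top hX) hF {u | IsConj u w} ?_
  · obtain ⟨φ, hφ, hφx⟩ := hf
    have h1 : IsConj (φ ⟨w, Subgroup.mem_zpowers w⟩) w :=
      (key _ φ hφ ⟨w, Subgroup.mem_zpowers w⟩).1 (IsConj.refl w)
    obtain ⟨g, hg⟩ := isConj_iff.1 h1
    exact hc.1 (hg ▸ hnor.conj_mem _ hφx g)
  · rintro P (rfl | hPe) α hα u
    · rw [autGroup_top hX (MC.isPGroup_mulAut h) F hF] at hα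
      obtain ⟨s, rfl⟩ := hα
      show IsConj (u : X) w ↔ IsConj ((s * u * s⁻¹ : (⊤ : Subgroup X)) : X) w
      have h1 : IsConj (u : X) ((s * u * s⁻¹ : (⊤ : Subgroup X)) : X) :=
        isConj_iff.2 ⟨(s : X), rfl⟩
      exact ⟨fun hh => h1.symm.trans hh, fun hh => h1.trans hh⟩
    · obtain ⟨w', hc', hact'⟩ := MC.exists_cand h F hF hPe
      have hnc : ¬ IsConj w' w := by
        intro hcj
        obtain ⟨g, hg⟩ := isConj_iff.1 hcj
        have h1 := MC.cand_conj h hc' g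
        rw [hg] at h1
        have h2 : P.map (MulAut.conj g).toMonoidHom = E := MC.cand_unique h h1 hc
        subst h2
        obtain ⟨e, he, -⟩ := exists_autGroup_conj F (le_top : P ≤ ⊤) g (Subgroup.mem_top g)
        apply hact'
        have e2 : (F.autGroup P) ≃* (F.autGroup (P.map (MulAut.conj g).toMonoidHom)) :=
          (e.subgroupMap (F.autGroup P)).trans (MulEquiv.subgroupCongr he)
        exact hP.of_equiv e2.symm
      have hdisj : ∀ v ∈ P, ¬ IsConj v w := by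
        intro v hv hvw
        by_cases hvx : v ∈ Subgroup.zpowers x
        · obtain ⟨g, hg⟩ := isConj_iff.1 hvw
          exact hc.1 (hg ▸ hnor.conj_mem _ hvx g)
        · exact hnc ((MC.cand_isConj h hc' hv hvx).symm.trans hvw)
      constructor <;> intro hh <;> exact absurd hh (hdisj _ (Subtype.coe_prop _))

/-! ### the system is determined by its fusion pattern -/

theorem MC.fused_out (h : MC x y n η δ) {F F' : FusionSystem (⊤ : Subgroup X)}
    (hy : fused F x y → fused F' x y) (hxy : fused F x (x * y) → fused F' x (x * y))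
    (hw : w ∉ Subgroup.zpowers x) (hf : fused F x w) : fused F' x w := by
  rcases MC.isConj_out h w hw with hcj | hcj
  · exact fused_of_isConj (hy (fused_of_isConj hf hcj)) hcj.symm
  · exact fused_of_isConj (hxy (fused_of_isConj hf hcj)) hcj.symm

theorem MC.hom_subset (h : MC x y n η δ) (F F' : FusionSystem (⊤ : Subgroup X)) (hF : F.IsSaturated 2)
    (hF' : F'.IsSaturated 2) (hy : fused F x y → fused F' x y)
    (hxy : fused F x (x * y) → fused F' x (x * y)) : ∀ P : Subgroup X, F.Hom P ⊆ F'.Hom P := by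
  have : Fact (Nat.Prime 2) := ⟨Nat.prime_two⟩
  have hfin := MC.finite h
  have hX := MC.isPGroup h
  apply alperin_goldschmidt F F' (isPGroup_top hX) hF
  rintro P (rfl | hPe)
  · rw [autGroup_top hX (MC.isPGroup_mulAut h) F hF, autGroup_top hX (MC.isPGroup_mulAut h) F' hF']
  · obtain ⟨w, hc, hact⟩ := MC.exists_cand h F hF hPe
    have hfu := MC.cand_fused h F hc hact
    have hfu' : fused F' x w := MC.fused_out h hy hxy hc.1 hfu
    have := MC.active_of_fused h F' hF' hc hfu'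
    rw [MC.cand_top h F' hc this]
    exact le_top

theorem MC.hom_eq (h : MC x y n η δ) (F F' : FusionSystem (⊤ : Subgroup X)) (hF : F.IsSaturated 2)
    (hF' : F'.IsSaturated 2) (hy : fused F x y ↔ fused F' x y)
    (hxy : fused F x (x * y) ↔ fused F' x (x * y)) : ∀ P : Subgroup X, F.Hom P = F'.Hom P :=
  fun P => Set.Subset.antisymm (MC.hom_subset h F F' hF hF' hy.1 hxy.1 P)
    (MC.hom_subset h F' F hF' hF hy.2 hxy.2 P)

/-- no element outside `⟨x⟩` is fused into `⟨x⟩`: there are no essential subgroups -/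
theorem MC.no_essential (h : MC x y n η δ) (F : FusionSystem (⊤ : Subgroup X)) (hF : F.IsSaturated 2)
    (hy : ¬ fused F x y) (hxy : ¬ fused F x (x * y)) (E : Subgroup X) : ¬ F.IsEssential 2 E := by
  intro hE
  obtain ⟨w, hc, hact⟩ := MC.exists_cand h F hF hE
  have hfu := MC.cand_fused h F hc hact
  rcases MC.isConj_out h w hc.1 with hcj | hcj
  · exact hy (fused_of_isConj hfu hcj)
  · exact hxy (fused_of_isConj hfu hcj)

/-- conjugate candidates are conjugate in the system -/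
theorem MC.cand_hom (h : MC x y n η δ) (F : FusionSystem (⊤ : Subgroup X)) {w' : X}
    (hc : Cand x n E w) (hc' : Cand x n E' w') (hcj : IsConj w w') : ∃ φ ∈ F.Hom E, φ.range = E' := by
  obtain ⟨g, hg⟩ := isConj_iff.1 hcj
  have h1 := MC.cand_conj h hc g
  rw [hg] at h1
  have h2 : E.map (MulAut.conj g).toMonoidHom = E' := MC.cand_unique h h1 hc'
  refine ⟨conjHom E g, F.conj_mem le_top (Subgroup.mem_top g), ?_⟩
  rw [← h2]
  ext v
  constructor
  · rintro ⟨u, rfl⟩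
    exact ⟨(u : X), u.2, rfl⟩
  · rintro ⟨u, hu, rfl⟩
    exact ⟨⟨u, hu⟩, rfl⟩

theorem MC.twoClasses (h : MC x y n η δ) (F : FusionSystem (⊤ : Subgroup X)) (hF : F.IsSaturated 2) :
    TwoClasses F := by
  intro E₁ E₂ E₃ h₁ h₂ h₃
  obtain ⟨w₁, hc₁, -⟩ := MC.exists_cand h F hF h₁
  obtain ⟨w₂, hc₂, -⟩ := MC.exists_cand h F hF h₂
  obtain ⟨w₃, hc₃, -⟩ := MC.exists_cand h F hF h₃
  rcases MC.isConj_out h w₁ hc₁.1 with a₁ | a₁ <;> rcases MC.isConj_out h w₂ hc₂.1 with a₂ | a₂ <;>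
    rcases MC.isConj_out h w₃ hc₃.1 with a₃ | a₃
  · exact Or.inl (MC.cand_hom h F hc₁ hc₂ (a₁.trans a₂.symm))
  · exact Or.inl (MC.cand_hom h F hc₁ hc₂ (a₁.trans a₂.symm))
  · exact Or.inr (Or.inl (MC.cand_hom h F hc₁ hc₃ (a₁.trans a₃.symm)))
  · exact Or.inr (Or.inr (MC.cand_hom h F hc₂ hc₃ (a₂.trans a₃.symm)))
  · exact Or.inr (Or.inr (MC.cand_hom h F hc₂ hc₃ (a₂.trans a₃.symm)))
  · exact Or.inr (Or.inl (MC.cand_hom h F hc₁ hc₃ (a₁.trans a₃.symm)))
  · exact Or.inl (MC.cand_hom h F hc₁ hc₂ (a₁.trans a₂.symm))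
  · exact Or.inl (MC.cand_hom h F hc₁ hc₂ (a₁.trans a₂.symm))

end Cfsg.Agent.Lib.Helper84.DSQW
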