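/-
helper84: project DSQW - realization of the saturated fusion systems over the groups `MC x y n η δ`
(dihedral, generalized quaternion, quasi-dihedral) by finite groups.
All declarations live in `Cfsg.Agent.Lib.Helper84.DSQW`.
-/
import Mathlib
import Cfsg.Agent.Lib.Helper84.DSQW.MCFusion
import Cfsg.Agent.Lib.Helper49.DSQWQHalf
import Cfsg.Agent.Lib.Helper84.DSQW.DHalf
import Cfsg.Agent.Lib.Helper11.DSQWNoEss
import Cfsg.Agent.Lib.Helper46.DSQWModels
import Cfsg.Agent.Lib.Helper49.DSQWQDQ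
import Cfsg.Agent.Lib.Helper54.DSQWPullback
import Cfsg.Agent.Lib.Helper66.DSQWAll
import Cfsg.Agent.Lib.Helper73.DSQWQD4
import Cfsg.Agent.Lib.Helper98.DSQWPsl3

set_option autoImplicit false
universe u

namespace Cfsg.Agent.Lib.Helper84.DSQW

open Cfsg Cfsg.FusionSystem Cfsg.Agent.Lib.Helper84 Cfsg.Agent.Lib.Helper87
open Cfsg.Agent.Lib.Helper20.QD
open Cfsg.Agent.Lib.Helper23.DSQWOut Cfsg.Agent.Lib.Helper54.DSQW Cfsg.Agent.Lib.Helper11.DSQW
open Cfsg.Agent.Lib.Helper66.DSQWAll Cfsg.Agent.Lib.Helper49.DSQWQDQ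

variable {X : Type*} [Group X] {x y : X} {n η δ : ℕ}

/-! ### orders of elements -/

theorem MC.sq_out (h : MC x y n η δ) {w : X} (hw : w ∉ Subgroup.zpowers x) :
    w * w = 1 ∨ w * w = x ^ 2 ^ (n - 1) := by
  obtain ⟨i, rfl⟩ := (MC.not_mem_iff h w).1 hw
  rw [MC.pwy_sq h, ← MC.pw_hf h]
  rcases even_or_odd ((η : ZMod (2 ^ n)) * i + (δ : ZMod (2 ^ n))) with ⟨j, hj⟩ | ⟨j, hj⟩
  · left
    rw [hj, mul_comm, hf_mul_even (MC.one_le_n h), MC.pw_zero h]
  · right
    rw [hj, mul_comm, hf_mul_odd (MC.one_le_n h)]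

theorem MC.ne_one_of_not_mem {w : X} (hw : w ∉ Subgroup.zpowers x) : w ≠ 1 := by
  rintro rfl
  exact hw (Subgroup.one_mem _)

theorem MC.z_mul_z (h : MC x y n η δ) : x ^ 2 ^ (n - 1) * x ^ 2 ^ (n - 1) = 1 := by
  rw [← pow_add, ← two_mul, ← pow_succ']
  have : n - 1 + 1 = n := Nat.sub_add_cancel (MC.one_le_n h)
  rw [this]
  exact MC.pow_eq_one h

theorem MC.orderOf_of_sq_one {w : X} (hw : w ∉ Subgroup.zpowers x) (h1 : w * w = 1) :
    orderOf w = 2 :=
  orderOf_eq_two_iff.2 ⟨h1, MC.ne_one_of_not_mem hw⟩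

theorem MC.orderOf_of_sq_z (h : MC x y n η δ) {w : X} (h1 : w * w = x ^ 2 ^ (n - 1)) :
    orderOf w = 4 := by
  rw [orderOf_eq_four_iff]
  have h2 : w ^ 2 = x ^ 2 ^ (n - 1) := by rw [pow_two, h1]
  refine ⟨?_, by rw [h2]; exact MC.z_ne_one h⟩
  have : w ^ 4 = w ^ 2 * w ^ 2 := by rw [← pow_add]
  rw [this, h2, MC.z_mul_z h]

theorem MC.orderOf_out (h : MC x y n η δ) {w : X} (hw : w ∉ Subgroup.zpowers x) :
    (orderOf w = 2 ∧ w * w = 1) ∨ (orderOf w = 4 ∧ w * w = x ^ 2 ^ (n - 1)) := by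
  rcases MC.sq_out h hw with h1 | h1
  · exact Or.inl ⟨MC.orderOf_of_sq_one hw h1, h1⟩
  · exact Or.inr ⟨MC.orderOf_of_sq_z h h1, h1⟩

theorem MC.xy_not_mem (h : MC x y n η δ) : x * y ∉ Subgroup.zpowers x := by
  have := MC.pwy_not_mem h 1
  rwa [MC.pw_one h] at this

theorem MC.xy_sq (h : MC x y n η δ) : (x * y) * (x * y) = (x ^ 2 ^ (n - 1)) ^ (η + δ) := by
  have := MC.pwy_sq h 1
  rw [MC.pw_one h] at this
  rw [this, ← MC.pw_hf h, MC.pw_pow h]
  congr 1
  push_cast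
  ring

/-- outside `⟨x⟩` the orders are smaller than that of `x` -/
theorem MC.orderOf_out_lt (h : MC x y n η δ) {w : X} (hw : w ∉ Subgroup.zpowers x) : orderOf w < 2 ^ n := by
  obtain ⟨i, rfl⟩ := (MC.not_mem_iff h w).1 hw
  by_cases hn : 3 ≤ n
  · have h8 : 2 ^ 3 ≤ 2 ^ n := Nat.pow_le_pow_right (by norm_num) hn
    rcases MC.orderOf_out h hw with ⟨h1, -⟩ | ⟨h1, -⟩ <;> omega
  · have hn2 : n = 2 := by have := h.hn; omega
    have hη : η = 0 := by
      rcases MC.eta_cases h with h0 | h1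
      · exact h0
      · have := (h.hsd h1).2; omega
    have hδ : δ = 0 := by
      rcases MC.delta_cases h with h0 | h1
      · exact h0
      · have := h.hq h1; omega
    have h1 : (pw x n i * y) * (pw x n i * y) = 1 := by
      rw [MC.pwy_sq h, hη, hδ]
      simp [MC.pw_zero h]
    rw [MC.orderOf_of_sq_one hw h1, hn2]
    norm_num

theorem MC.orderOf_pow_two_pow (h : MC x y n η δ) (j : ℕ) (hj : j ≤ n) : orderOf (x ^ 2 ^ (n - j)) = 2 ^ j := by
  rw [orderOf_pow' _ (by positivity), h.ox]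
  have h1 : Nat.gcd (2 ^ n) (2 ^ (n - j)) = 2 ^ (n - j) :=
    Nat.gcd_eq_right (pow_dvd_pow 2 (Nat.sub_le n j))
  rw [h1, Nat.pow_div (Nat.sub_le n j) (by norm_num)]
  congr 1
  omega

/-- there is an element of `⟨x⟩` of the same order as a given element outside -/
theorem MC.exists_pow_orderOf (h : MC x y n η δ) {w : X} (hw : w ∉ Subgroup.zpowers x) :
    ∃ k : ℕ, orderOf (x ^ k) = orderOf w := by
  rcases MC.orderOf_out h hw with ⟨h1, -⟩ | ⟨h1, -⟩
  · exact ⟨2 ^ (n - 1), by rw [h1]; exact MC.orderOf_pow_two_pow h 1 (MC.one_le_n h)⟩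
  · exact ⟨2 ^ (n - 2), by rw [h1]; exact MC.orderOf_pow_two_pow h 2 h.hn⟩

/-- an element of `⟨x⟩` of smaller order than `x` is a square -/
theorem MC.exists_sq (h : MC x y n η δ) (k : ℕ) (hk : orderOf (x ^ k) < 2 ^ n) : ∃ v : X, x ^ k = v * v := by
  rcases Nat.even_or_odd k with ⟨j, rfl⟩ | hodd
  · exact ⟨x ^ j, by rw [pow_add]⟩
  · exfalso
    have hc : (orderOf x).Coprime k := by
      rw [h.ox]
      exact Nat.Coprime.pow_left n (Nat.coprime_two_left.2 hodd)
    rw [hc.orderOf_pow, h.ox] at hk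
    exact lt_irrefl _ hk

/-! ### fusion patterns of pullbacks -/

section pattern

variable {G : Type*} [Group G] {T : Subgroup G}

theorem orderOf_coe_equiv (e : X ≃* T) (u : X) : orderOf ((e u : T) : G) = orderOf u := by
  rw [Subgroup.orderOf_coe, MulEquiv.orderOf_eq]

theorem coe_equiv_pow (e : X ≃* T) (u : X) (k : ℕ) : ((e (u ^ k) : T) : G) = ((e u : T) : G) ^ k := by
  rw [map_pow, Subgroup.coe_pow]

/-- all elements of `T` of the order of `w` are conjugate in `G`: `w` is fused into `⟨x⟩` -/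
theorem MC.fused_pb_of_forall (h : MC x y n η δ) (e : X ≃* T) {w : X} (hw : w ∉ Subgroup.zpowers x)
    (hconj : ∀ a b : G, a ∈ T → b ∈ T → orderOf a = orderOf w → orderOf b = orderOf w → IsConj a b) :
    fused (pb e) x w := by
  have := MC.finite h
  obtain ⟨k, hk⟩ := MC.exists_pow_orderOf h hw
  have hc := hconj (e w : T) (e (x ^ k) : T) (e w).2 (e (x ^ k)).2 (orderOf_coe_equiv e w)
    ((orderOf_coe_equiv e _).trans hk)
  obtain ⟨g, hg⟩ := isConj_iff.1 hc
  exact (fused_pb_iff e x w).2 ⟨g, k, by rw [hg, coe_equiv_pow]⟩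

/-- `N` normal of index two, containing the image of `w₁` but not that of `w₂`, with a single class of elements
of the order of `w₁`: `w₁` is fused into `⟨x⟩` and `w₂` is not -/
theorem MC.pattern_of_index_two (h : MC x y n η δ) (e : X ≃* T) (N : Subgroup G) [N.Normal] (hN : N.index = 2)
    {w₁ w₂ : X} (hw₁ : w₁ ∉ Subgroup.zpowers x) (hw₂ : w₂ ∉ Subgroup.zpowers x)
    (h₁ : ((e w₁ : T) : G) ∈ N) (h₂ : ((e w₂ : T) : G) ∉ N)
    (hconj : ∀ a b : G, a ∈ N → b ∈ N → orderOf a = orderOf w₁ → orderOf b = orderOf w₁ → IsConj a b) :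
    fused (pb e) x w₁ ∧ ¬ fused (pb e) x w₂ := by
  have := MC.finite h
  have hsq : ∀ k : ℕ, orderOf (x ^ k) < 2 ^ n → ((e (x ^ k) : T) : G) ∈ N := by
    intro k hk
    obtain ⟨v, hv⟩ := MC.exists_sq h k hk
    rw [hv, map_mul, Subgroup.coe_mul]
    exact Subgroup.mul_self_mem_of_index_two hN _
  constructor
  · obtain ⟨k, hk⟩ := MC.exists_pow_orderOf h hw₁
    have hkN := hsq k (by rw [hk]; exact MC.orderOf_out_lt h hw₁)
    have hc := hconj (e w₁ : T) (e (x ^ k) : T) h₁ hkN (orderOf_coe_equiv e w₁)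
      ((orderOf_coe_equiv e _).trans hk)
    obtain ⟨g, hg⟩ := isConj_iff.1 hc
    exact (fused_pb_iff e x w₁).2 ⟨g, k, by rw [hg, coe_equiv_pow]⟩
  · intro hf
    obtain ⟨g, k, hg⟩ := (fused_pb_iff e x w₂).1 hf
    rw [← coe_equiv_pow] at hg
    have ho : orderOf (x ^ k) = orderOf w₂ := by
      rw [← orderOf_coe_equiv e (x ^ k), ← hg, ← orderOf_coe_equiv e w₂]
      exact MulEquiv.orderOf_eq (MulAut.conj g) _
    have hkN := hsq k (by rw [ho]; exact MC.orderOf_out_lt h hw₂)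
    rw [← hg] at hkN
    apply h₂
    have := (inferInstance : N.Normal).conj_mem _ hkN g⁻¹
    simpa [mul_assoc] using this

end pattern

/-! ### normal subgroups of index two -/

section indexTwo

variable {G : Type*} [Group G] [Finite G]

theorem sylow_not_le_of_index_two (T : Sylow 2 G) (N : Subgroup G) (hN : N.index = 2) :
    ¬ (T : Subgroup G) ≤ N := by
  intro hle
  have : Fact (Nat.Prime 2) := ⟨Nat.prime_two⟩
  have h1 := Subgroup.index_dvd_of_le hle
  rw [hN] at h1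
  exact T.not_dvd_index h1

omit [Finite G] in
theorem MC.le_of_mem (h : MC x y n η δ) {T : Subgroup G} (e : X ≃* T) (N : Subgroup G)
    (hx : ((e x : T) : G) ∈ N) (hy : ((e y : T) : G) ∈ N) : T ≤ N := by
  intro t ht
  obtain ⟨u, hu⟩ : ∃ u, e u = ⟨t, ht⟩ := e.surjective _
  have ht' : t = ((e u : T) : G) := by rw [hu]
  rw [ht']
  have hpw : ∀ i, ((e (pw x n i) : T) : G) ∈ N := fun i => by
    unfold pw; rw [coe_equiv_pow]; exact N.pow_mem hx _
  rcases MC.normal_form h u with ⟨i, rfl⟩ | ⟨i, rfl⟩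
  · exact hpw i
  · rw [map_mul, Subgroup.coe_mul]; exact N.mul_mem (hpw i) hy

theorem MC.x_not_mem_of_y_mem (h : MC x y n η δ) (T : Sylow 2 G) (e : X ≃* (T : Subgroup G)) (N : Subgroup G)
    (hN : N.index = 2) (hy : ((e y : (T : Subgroup G)) : G) ∈ N) : ((e x : (T : Subgroup G)) : G) ∉ N :=
  fun hx => sylow_not_le_of_index_two T N hN (MC.le_of_mem h e N hx hy)

theorem MC.x_not_mem_of_not_isCyclic (h : MC x y n η δ) (T : Sylow 2 G) (e : X ≃* (T : Subgroup G))
    (N : Subgroup G) (hN : N.index = 2) (hc : ¬ IsCyclic ↥((T : Subgroup G) ⊓ N)) :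
    ((e x : (T : Subgroup G)) : G) ∉ N := by
  intro hx
  apply hc
  rw [Subgroup.isCyclic_iff_exists_zpowers_eq_top]
  refine ⟨((e x : (T : Subgroup G)) : G), le_antisymm ?_ ?_⟩
  · rw [Subgroup.zpowers_le]; exact ⟨(e x).2, hx⟩
  · rintro t ⟨htT, htN⟩
    obtain ⟨u, hu⟩ := e.surjective ⟨t, htT⟩
    have ht : t = ((e u : (T : Subgroup G)) : G) := by rw [hu]
    by_cases hux : u ∈ Subgroup.zpowers x
    · obtain ⟨k, rfl⟩ := hux
      rw [ht, map_zpow, Subgroup.coe_zpow]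
      exact Subgroup.zpow_mem _ (Subgroup.mem_zpowers _) k
    · exfalso
      obtain ⟨i, rfl⟩ := (MC.not_mem_iff h u).1 hux
      have hpw : ((e (pw x n i) : (T : Subgroup G)) : G) ∈ N := by
        unfold pw; rw [coe_equiv_pow]; exact N.pow_mem hx _
      have hy : ((e y : (T : Subgroup G)) : G) ∈ N := by
        have htN' : t ∈ N := htN
        rw [ht, map_mul, Subgroup.coe_mul] at htN'
        exact (N.mul_mem_cancel_left hpw).1 htN'
      exact sylow_not_le_of_index_two T N hN (MC.le_of_mem h e N hx hy)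

omit [Finite G] in
theorem xy_mem_iff {T : Subgroup G} (e : X ≃* T) (N : Subgroup G) (hN : N.index = 2)
    (hx : ((e x : T) : G) ∉ N) : ((e (x * y) : T) : G) ∈ N ↔ ((e y : T) : G) ∉ N := by
  rw [map_mul, Subgroup.coe_mul, Subgroup.mul_mem_iff_of_index_two hN]
  constructor
  · intro h1 h2; exact hx (h1.2 h2)
  · intro h2; exact ⟨fun h => absurd h hx, fun h => absurd h h2⟩

theorem MC.orderOf_eq_of_sq_eq (h : MC x y n η δ) {w w' : X} (hw : w ∉ Subgroup.zpowers x)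
    (hw' : w' ∉ Subgroup.zpowers x) (hsq : w * w = w' * w') : orderOf w = orderOf w' := by
  rcases MC.orderOf_out h hw with ⟨h1, h2⟩ | ⟨h1, h2⟩ <;> rcases MC.orderOf_out h hw' with ⟨h1', h2'⟩ | ⟨h1', h2'⟩
  · rw [h1, h1']
  · exact absurd (h2'.symm.trans (hsq.symm.trans h2)) (MC.z_ne_one h)
  · exact absurd (h2.symm.trans (hsq.trans h2')) (MC.z_ne_one h)
  · rw [h1, h1']

theorem MC.orderOf_xy_eq (h : MC x y n 0 δ) : orderOf (x * y) = orderOf y := by
  apply MC.orderOf_eq_of_sq_eq h (MC.xy_not_mem h) h.hyx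
  rw [MC.xy_sq h, h.sq, zero_add]

/-- dihedral and generalized quaternion groups: an isomorphism onto `T` with prescribed position of `y` -/
theorem MC.exists_equiv_half (h : MC x y n 0 δ) (T : Sylow 2 G) (e₀ : X ≃* (T : Subgroup G)) (N : Subgroup G)
    (hN : N.index = 2) (hc : ¬ IsCyclic ↥((T : Subgroup G) ⊓ N)) (b : Prop) :
    ∃ e : X ≃* (T : Subgroup G), ((e x : (T : Subgroup G)) : G) ∉ N ∧ (((e y : (T : Subgroup G)) : G) ∈ N ↔ b) := by
  by_cases hb : ((e₀ y : (T : Subgroup G)) : G) ∈ N ↔ b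
  · exact ⟨e₀, MC.x_not_mem_of_not_isCyclic h T e₀ N hN hc, hb⟩
  · obtain ⟨sw, hswx, hswy⟩ := MC.exists_equiv h (MC.swap h)
    have hx0 := MC.x_not_mem_of_not_isCyclic h T e₀ N hN hc
    refine ⟨sw.trans e₀, ?_, ?_⟩
    · show ((e₀ (sw x) : (T : Subgroup G)) : G) ∉ N
      rw [hswx]; exact hx0
    · show ((e₀ (sw y) : (T : Subgroup G)) : G) ∈ N ↔ b
      rw [hswy, xy_mem_iff e₀ N hN hx0]
      constructor
      · intro h1
        by_contra hb'
        exact hb ⟨fun h2 => absurd h2 h1, fun h2 => absurd h2 hb'⟩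
      · intro h1 h2
        exact hb ⟨fun _ => h1, fun _ => h2⟩

theorem MC.half_TF (h : MC x y n 0 δ) (T : Sylow 2 G) (e₀ : X ≃* (T : Subgroup G)) (N : Subgroup G) [N.Normal]
    (hN : N.index = 2) (hc : ¬ IsCyclic ↥((T : Subgroup G) ⊓ N))
    (hconj : ∀ a b : G, a ∈ N → b ∈ N → orderOf a = orderOf y → orderOf b = orderOf y → IsConj a b) :
    ∃ e : X ≃* (T : Subgroup G), fused (pb e) x y ∧ ¬ fused (pb e) x (x * y) := by
  obtain ⟨e, hx, hy⟩ := MC.exists_equiv_half h T e₀ N hN hc True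
  have hy' := hy.2 trivial
  have hxy : ((e (x * y) : (T : Subgroup G)) : G) ∉ N := fun h1 => (xy_mem_iff e N hN hx).1 h1 hy'
  exact ⟨e, MC.pattern_of_index_two h e N hN h.hyx (MC.xy_not_mem h) hy' hxy hconj⟩

theorem MC.half_FT (h : MC x y n 0 δ) (T : Sylow 2 G) (e₀ : X ≃* (T : Subgroup G)) (N : Subgroup G) [N.Normal]
    (hN : N.index = 2) (hc : ¬ IsCyclic ↥((T : Subgroup G) ⊓ N))
    (hconj : ∀ a b : G, a ∈ N → b ∈ N → orderOf a = orderOf y → orderOf b = orderOf y → IsConj a b) :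
    ∃ e : X ≃* (T : Subgroup G), ¬ fused (pb e) x y ∧ fused (pb e) x (x * y) := by
  obtain ⟨e, hx, hy⟩ := MC.exists_equiv_half h T e₀ N hN hc False
  have hy' : ((e y : (T : Subgroup G)) : G) ∉ N := fun h1 => hy.1 h1
  have hxy : ((e (x * y) : (T : Subgroup G)) : G) ∈ N := (xy_mem_iff e N hN hx).2 hy'
  have := MC.pattern_of_index_two h e N hN (MC.xy_not_mem h) h.hyx hxy hy'
    (by rw [MC.orderOf_xy_eq h]; exact hconj)
  exact ⟨e, this.2, this.1⟩

/-! ### the quasi-dihedral cases -/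

theorem MC.eq_z_of_orderOf_two (h : MC x y n η δ) {u : X} (hu : u ∈ Subgroup.zpowers x) (ho : orderOf u = 2) :
    u = x ^ 2 ^ (n - 1) := by
  obtain ⟨i, rfl⟩ := (MC.mem_zpowers_iff h u).1 hu
  obtain ⟨h1, h2⟩ := orderOf_eq_two_iff.1 ho
  rw [← MC.pw_add h, MC.pw_eq_one_iff h, ← two_mul, two_mul_eq_zero_iff (MC.one_le_n h)] at h1
  rcases h1 with rfl | rfl
  · exact absurd (MC.pw_zero h) h2
  · exact MC.pw_hf h

theorem MC.two_ne_zero (h : MC x y n η δ) : (2 : ZMod (2 ^ n)) ≠ 0 := by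
  intro h2
  have := two_mul_qt h.hn
  rw [h2, zero_mul] at this
  exact hf_ne_zero (MC.one_le_n h) this.symm

theorem MC.mem_of_comm (h : MC x y n η δ) {u : X} (hu : u * x = x * u) : u ∈ Subgroup.zpowers x := by
  by_contra hux
  obtain ⟨i, rfl⟩ := (MC.not_mem_iff h u).1 hux
  have h1 : (pw x n i * y) * pw x n 1 = pw x n 1 * (pw x n i * y) := by rw [MC.pw_one h]; exact hu
  rw [MC.pwy_mul_pw h, MC.pw_mul_pwy h] at h1
  have h2 := MC.pw_injective h (mul_right_cancel h1)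
  have h3 : (η : ZMod (2 ^ n)) * hf n = 2 := by
    unfold ee at h2
    linear_combination h2
  rcases MC.eta_cases h with h0 | h0
  · rw [h0] at h3
    simp at h3
    exact MC.two_ne_zero h h3.symm
  · have hn3 := (h.hsd h0).2
    rw [h0] at h3
    simp at h3
    have h4 := hf_mul_qt hn3
    rw [h3, two_mul_qt h.hn] at h4
    exact hf_ne_zero (MC.one_le_n h) h4

theorem MC.sd_TF (h : MC x y n 1 0) (T : Sylow 2 G) (e : X ≃* (T : Subgroup G)) (N : Subgroup G) [N.Normal]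
    (hN : N.index = 2)
    (ht : ∃ t s : G, t ∈ (T : Subgroup G) ∧ t ∈ N ∧ s ∈ (T : Subgroup G) ∧ orderOf t = 2 ∧ s * t ≠ t * s)
    (hconj : ∀ a b : G, a ∈ N → b ∈ N → orderOf a = 2 → orderOf b = 2 → IsConj a b) :
    fused (pb e) x y ∧ ¬ fused (pb e) x (x * y) := by
  obtain ⟨t, s, htT, htN, hsT, hto, hst⟩ := ht
  obtain ⟨t', ht'⟩ := e.surjective ⟨t, htT⟩
  obtain ⟨s', hs'⟩ := e.surjective ⟨s, hsT⟩
  have hto' : orderOf t' = 2 := by
    rw [← orderOf_coe_equiv e t', ht']; exact hto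
  have ht'x : t' ∉ Subgroup.zpowers x := by
    intro hm
    have hz := MC.eq_z_of_orderOf_two h hm hto'
    apply hst
    have h1 : s' * t' = t' * s' := by rw [hz]; exact MC.z_comm h s'
    have h2 := congrArg (fun u => ((e u : (T : Subgroup G)) : G)) h1
    simpa [ht', hs'] using h2
  have hy2 : orderOf y = 2 := MC.orderOf_of_sq_one h.hyx (by rw [h.sq, pow_zero])
  have hxy4 : orderOf (x * y) = 4 := MC.orderOf_of_sq_z h (by rw [MC.xy_sq h]; simp)
  have hcj : IsConj t' y := by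
    rcases MC.isConj_out h t' ht'x with h1 | h1
    · exact h1
    · exfalso
      obtain ⟨g, hg⟩ := isConj_iff.1 h1
      have : orderOf (x * y) = orderOf t' := by
        rw [← hg]; exact MulEquiv.orderOf_eq (MulAut.conj g) _
      omega
  obtain ⟨g, hg⟩ := isConj_iff.1 hcj
  have hyN : ((e y : (T : Subgroup G)) : G) ∈ N := by
    rw [← hg, map_mul, map_mul, map_inv, ht']
    exact (inferInstance : N.Normal).conj_mem t htN _
  have hx := MC.x_not_mem_of_y_mem h T e N hN hyN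
  have hxy : ((e (x * y) : (T : Subgroup G)) : G) ∉ N := fun h1 => (xy_mem_iff e N hN hx).1 h1 hyN
  exact MC.pattern_of_index_two h e N hN h.hyx (MC.xy_not_mem h) hyN hxy (by rw [hy2]; exact hconj)

omit [Finite G] in
theorem MC.sd_FT (h : MC x y n 1 0) (T : Sylow 2 G) (e : X ≃* (T : Subgroup G))
    (ht : ∃ t ∈ Subgroup.center G, orderOf t = 2)
    (hconj : ∀ a b : G, a ∈ (T : Subgroup G) → b ∈ (T : Subgroup G) → orderOf a = 4 → orderOf b = 4 → IsConj a b) :
    ¬ fused (pb e) x y ∧ fused (pb e) x (x * y) := by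
  have := MC.finite h
  have hy2 : orderOf y = 2 := MC.orderOf_of_sq_one h.hyx (by rw [h.sq, pow_zero])
  have hxy4 : orderOf (x * y) = 4 := MC.orderOf_of_sq_z h (by rw [MC.xy_sq h]; simp)
  refine ⟨?_, MC.fused_pb_of_forall h e (MC.xy_not_mem h) (by rw [hxy4]; exact hconj)⟩
  obtain ⟨t, htc, hto⟩ := ht
  have hcomm : ∀ g : G, g * t = t * g := fun g => Subgroup.mem_center_iff.1 htc g
  -- `t` lies in `T`
  have hnor : (Subgroup.zpowers t).Normal := by
    refine ⟨fun a ha g => ?_⟩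
    obtain ⟨k, rfl⟩ := ha
    have : g * t ^ k * g⁻¹ = t ^ k := by
      have h1 : g * t ^ k = t ^ k * g := by
        have := (Commute.zpow_right (show Commute g t from hcomm g) k)
        exact this
      rw [h1]; group
    rw [this]
    exact ⟨k, rfl⟩
  have hp : IsPGroup 2 (Subgroup.zpowers t) :=
    IsPGroup.of_card (n := 1) (by rw [Nat.card_zpowers, hto, pow_one])
  have htT : t ∈ (T : Subgroup G) := hp.le_sylow_of_normal T (Subgroup.mem_zpowers t)
  obtain ⟨t', ht'⟩ := e.surjective ⟨t, htT⟩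
  have hto' : orderOf t' = 2 := by
    rw [← orderOf_coe_equiv e t', ht']; exact hto
  have ht'x : t' ∈ Subgroup.zpowers x := by
    apply MC.mem_of_comm h
    apply e.injective
    apply Subtype.ext
    rw [map_mul, map_mul, Subgroup.coe_mul, Subgroup.coe_mul, ht']
    exact (hcomm _).symm
  have hz := MC.eq_z_of_orderOf_two h ht'x hto'
  intro hf
  obtain ⟨g, k, hg⟩ := (fused_pb_iff e x y).1 hf
  rw [← coe_equiv_pow] at hg
  have ho : orderOf (x ^ k) = 2 := by
    rw [← orderOf_coe_equiv e (x ^ k), ← hg]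
    exact (MulEquiv.orderOf_eq (MulAut.conj g) _).trans ((orderOf_coe_equiv e y).trans hy2)
  have hk := MC.eq_z_of_orderOf_two h (Subgroup.pow_mem _ (Subgroup.mem_zpowers x) k) ho
  rw [hk, ← hz, ht'] at hg
  -- `g * e y * g⁻¹ = t` with `t` central
  have h1 : ((e y : (T : Subgroup G)) : G) = t := by
    have : ((e y : (T : Subgroup G)) : G) = g⁻¹ * t * g := by
      rw [show (t : G) = g * ((e y : (T : Subgroup G)) : G) * g⁻¹ from hg.symm]; group
    rw [this, hcomm g⁻¹]; group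
  have h2 : e y = e t' := Subtype.ext (by rw [h1, ht'])
  exact h.hyx (e.injective h2 ▸ ht'x)

end indexTwo

/-! ### the groups -/

theorem MC.orderOf_y_of_zero (h : MC x y n η 0) : orderOf y = 2 :=
  MC.orderOf_of_sq_one h.hyx (by rw [h.sq, pow_zero])

theorem MC.orderOf_y_of_one (h : MC x y n η 1) : orderOf y = 4 :=
  MC.orderOf_of_sq_z h (by rw [h.sq, pow_one])

/-- the type of conclusion of the three existence statements -/
def Realizes (x y : X) (a b : Prop) : Prop :=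
  ∃ (G : Type) (_ : Group G) (_ : Finite G) (T : Sylow 2 G) (e : X ≃* (T : Subgroup G)),
    (fused (pb e) x y ↔ a) ∧ (fused (pb e) x (x * y) ↔ b)

theorem MC.realizes_dihedral (h : MC x y n 0 0) (a b : Prop) (hab : a ∨ b) : Realizes x y a b := by
  have hy2 := MC.orderOf_y_of_zero h
  have hxy2 : orderOf (x * y) = 2 := by rw [MC.orderOf_xy_eq h, hy2]
  obtain ⟨e₁, -, -⟩ := MC.exists_equiv h (mc_dihedral n h.hn)
  by_cases ha : a <;> by_cases hb : b
  · obtain ⟨G, _, _, T, ⟨f⟩, hconj⟩ := exists_group_dihedral_all n h.hn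
    refine ⟨G, _, ‹_›, T, e₁.trans f.symm, iff_of_true ?_ ha, iff_of_true ?_ hb⟩
    · exact MC.fused_pb_of_forall h _ h.hyx (fun a b _ _ h1 h2 => hconj a b (h1.trans hy2) (h2.trans hy2))
    · exact MC.fused_pb_of_forall h _ (MC.xy_not_mem h)
        (fun a b _ _ h1 h2 => hconj a b (h1.trans hxy2) (h2.trans hxy2))
  · obtain ⟨G, _, _, T, N, hNn, hN, ⟨f⟩, hc, hconj⟩ := exists_group_dihedral_half n h.hn
    obtain ⟨e, h1, h2⟩ := MC.half_TF h T (e₁.trans f.symm) N hN hc (by rw [hy2]; exact hconj)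
    exact ⟨G, _, ‹_›, T, e, iff_of_true h1 ha, iff_of_false h2 hb⟩
  · obtain ⟨G, _, _, T, N, hNn, hN, ⟨f⟩, hc, hconj⟩ := exists_group_dihedral_half n h.hn
    obtain ⟨e, h1, h2⟩ := MC.half_FT h T (e₁.trans f.symm) N hN hc (by rw [hy2]; exact hconj)
    exact ⟨G, _, ‹_›, T, e, iff_of_false h1 ha, iff_of_true h2 hb⟩
  · exact absurd hab (by tauto)

theorem MC.realizes_quaternion (h : MC x y n 0 1) (a b : Prop) (hab : a ∨ b) : Realizes x y a b := by
  have hy4 := MC.orderOf_y_of_one h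
  have hxy4 : orderOf (x * y) = 4 := by rw [MC.orderOf_xy_eq h, hy4]
  have hn3 := h.hq rfl
  obtain ⟨k, rfl⟩ : ∃ k, n = k + 1 := ⟨n - 1, by omega⟩
  have hk : 2 ≤ k := by omega
  obtain ⟨e₁, -, -⟩ := MC.exists_equiv h (mc_quaternion k hk)
  by_cases ha : a <;> by_cases hb : b
  · obtain ⟨G, _, _, T, ⟨f⟩, hconj⟩ := exists_group_quaternion_all k (by omega)
    refine ⟨G, _, ‹_›, T, e₁.trans f.symm, iff_of_true ?_ ha, iff_of_true ?_ hb⟩
    · exact MC.fused_pb_of_forall h _ h.hyx (fun a b _ _ h1 h2 => hconj a b (h1.trans hy4) (h2.trans hy4))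
    · exact MC.fused_pb_of_forall h _ (MC.xy_not_mem h)
        (fun a b _ _ h1 h2 => hconj a b (h1.trans hxy4) (h2.trans hxy4))
  · obtain ⟨G, _, _, T, N, hNn, hN, ⟨f⟩, hc, hconj⟩ := Cfsg.Agent.Lib.Helper49.DSQWQHalf.exists_group_quaternion_half k hk
    obtain ⟨e, h1, h2⟩ := MC.half_TF h T (e₁.trans f.symm) N hN hc (by rw [hy4]; exact hconj)
    exact ⟨G, _, ‹_›, T, e, iff_of_true h1 ha, iff_of_false h2 hb⟩
  · obtain ⟨G, _, _, T, N, hNn, hN, ⟨f⟩, hc, hconj⟩ := Cfsg.Agent.Lib.Helper49.DSQWQHalf.exists_group_quaternion_half k hk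
    obtain ⟨e, h1, h2⟩ := MC.half_FT h T (e₁.trans f.symm) N hN hc (by rw [hy4]; exact hconj)
    exact ⟨G, _, ‹_›, T, e, iff_of_false h1 ha, iff_of_true h2 hb⟩
  · exact absurd hab (by tauto)

theorem MC.realizes_qd (h : MC x y n 1 0) (a b : Prop) (hab : a ∨ b) : Realizes x y a b := by
  have hy2 := MC.orderOf_y_of_zero h
  have hxy4 : orderOf (x * y) = 4 := MC.orderOf_of_sq_z h (by rw [MC.xy_sq h]; simp)
  have hn3 := (h.hsd rfl).2
  by_cases ha : a <;> by_cases hb : b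
  · obtain ⟨G, _, _, T, hQD, hcard, hc2, hc4⟩ := Cfsg.Agent.Lib.Helper98.DSQW.exists_group_qd_all n hn3
    obtain ⟨x', y', h'⟩ := mc_of_isQuasiDihedral hQD n hcard
    obtain ⟨e, -, -⟩ := MC.exists_equiv h h'
    refine ⟨G, _, ‹_›, T, e, iff_of_true ?_ ha, iff_of_true ?_ hb⟩
    · exact MC.fused_pb_of_forall h _ h.hyx (fun a b _ _ h1 h2 => hc2 a b (h1.trans hy2) (h2.trans hy2))
    · exact MC.fused_pb_of_forall h _ (MC.xy_not_mem h)
        (fun a b ha' hb' h1 h2 => hc4 a b ha' hb' (h1.trans hxy4) (h2.trans hxy4))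
  · obtain ⟨G, _, _, T, N, hNn, hN, hQD, hcard, ht, hconj⟩ := Cfsg.Agent.Lib.Helper73.DSQW.exists_group_qd_four n hn3
    obtain ⟨x', y', h'⟩ := mc_of_isQuasiDihedral hQD n hcard
    obtain ⟨e, -, -⟩ := MC.exists_equiv h h'
    obtain ⟨h1, h2⟩ := MC.sd_TF h T e N hN ht hconj
    exact ⟨G, _, ‹_›, T, e, iff_of_true h1 ha, iff_of_false h2 hb⟩
  · obtain ⟨G, _, _, T, hQD, hcard, ht, hconj⟩ := exists_group_qd_quat n hn3
    obtain ⟨x', y', h'⟩ := mc_of_isQuasiDihedral hQD n hcard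
    obtain ⟨e, -, -⟩ := MC.exists_equiv h h'
    obtain ⟨h1, h2⟩ := MC.sd_FT h T e ht hconj
    exact ⟨G, _, ‹_›, T, e, iff_of_false h1 ha, iff_of_true h2 hb⟩
  · exact absurd hab (by tauto)

theorem MC.realizes (h : MC x y n η δ) (a b : Prop) (hab : a ∨ b) : Realizes x y a b := by
  rcases MC.eta_cases h with rfl | rfl <;> rcases MC.delta_cases h with rfl | rfl
  · exact MC.realizes_dihedral h a b hab
  · exact MC.realizes_quaternion h a b hab
  · exact MC.realizes_qd h a b hab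
  · have := (h.hsd rfl).1; omega

/-- **Saturated fusion systems over dihedral, generalized quaternion (of order at least 16) and quasi-dihedral
2-groups.** -/
theorem mc_main {X : Type u} [Group X] {x y : X} {n η δ : ℕ} (h : MC x y n η δ)
    (F : FusionSystem (⊤ : Subgroup X)) (hF : F.IsSaturated 2) : TwoClasses F ∧ F.IsRealizable 2 := by
  refine ⟨MC.twoClasses h F hF, ?_⟩
  have : Fact (Nat.Prime 2) := ⟨Nat.prime_two⟩
  have hfin := MC.finite h
  by_cases hab : fused F x y ∨ fused F x (x * y)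
  · obtain ⟨G, _, _, T, e, h1, h2⟩ := MC.realizes h _ _ hab
    exact isRealizable_of_hom_eq_pb T e F (MC.hom_eq h F (pb e) hF (pb_isSaturated T e) h1.symm h2.symm)
  · push Not at hab
    exact isRealizable_of_no_essential (isPGroup_top (MC.isPGroup h)) F hF (MC.no_essential h F hF hab.1 hab.2)

end Cfsg.Agent.Lib.Helper84.DSQW
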