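/-
helper84: project DSQW - the quaternion group of order 8, the assembly of the four families over the whole group,
and the reduction of the general setting `S ≤ Ω` to it.
All declarations live in `Cfsg.Agent.Lib.Helper84.DSQW`.
-/
import Mathlib
import Cfsg.Agent.Lib.Helper84.DSQW.MCReal
import Cfsg.Agent.Lib.Helper84.FTr.Push
import Cfsg.Agent.Lib.Helper13.DSQWTr
import Cfsg.Agent.Lib.Helper23.DSQWTrEss
import Cfsg.Agent.Lib.Helper38.Wreathed
import Cfsg.Agent.Lib.Helper87.DSQWWrReal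
import Cfsg.Agent.Lib.Helper86.DSQW.WrERigid

set_option autoImplicit false
universe u

namespace Cfsg.Agent.Lib.Helper84.DSQW

open Cfsg Cfsg.FusionSystem Cfsg.Agent.Lib.Helper84 Cfsg.Agent.Lib.Helper84.FTr Cfsg.Agent.Lib.Helper87
open Cfsg.Agent.Lib.Helper13.DSQW Cfsg.Agent.Lib.Helper23.DSQWTrEss Cfsg.Agent.Lib.Helper54.DSQW
open Cfsg.Agent.Lib.Helper11.DSQW

/-! ### the quaternion group of order 8 -/

theorem q8_sq (g : QuaternionGroup 2) (h : g ^ 2 = 1) : g = 1 ∨ g = QuaternionGroup.a 2 := by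
  revert g
  decide

theorem q8_isCyclic (E : Subgroup (QuaternionGroup 2)) (hE : E ≠ ⊤) : IsCyclic E := by
  have hcard : Nat.card (QuaternionGroup 2) = 2 ^ 3 := by
    rw [Nat.card_eq_fintype_card, QuaternionGroup.card]; norm_num
  have hdvd : Nat.card E ∣ 2 ^ 3 := hcard ▸ Subgroup.card_subgroup_dvd_card E
  obtain ⟨j, hj, hEj⟩ := (Nat.dvd_prime_pow Nat.prime_two).1 hdvd
  have hj3 : j ≠ 3 := by
    rintro rfl
    exact hE ((Subgroup.card_eq_iff_eq_top E).1 (hEj.trans hcard.symm))
  interval_cases j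
  · have : Subsingleton E := (Nat.card_eq_one_iff_unique.1 hEj).1
    infer_instance
  · have : Fact (Nat.Prime 2) := ⟨Nat.prime_two⟩
    exact isCyclic_of_prime_card (p := 2) (by simpa using hEj)
  · by_contra hnc
    have hall : ∀ g : E, (g : QuaternionGroup 2) = 1 ∨ (g : QuaternionGroup 2) = QuaternionGroup.a 2 := by
      intro g
      apply q8_sq
      have h4 : g ^ 4 = 1 := by
        have := pow_card_eq_one' (G := E) (x := g)
        rwa [hEj] at this
      have hne : orderOf g ≠ 4 := by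
        intro ho
        exact hnc (isCyclic_of_orderOf_eq_card g (by rw [ho, hEj]; norm_num))
      have hd : orderOf g ∣ 2 ^ 2 := orderOf_dvd_of_pow_eq_one h4
      obtain ⟨i, hi, hgi⟩ := (Nat.dvd_prime_pow Nat.prime_two).1 hd
      have hi2 : i ≤ 1 := by
        by_contra hcon
        have : i = 2 := by omega
        rw [this] at hgi
        exact hne hgi
      have : orderOf g ∣ 2 := by
        rw [hgi]
        exact pow_dvd_pow 2 hi2 |>.trans (by norm_num)
      have h2 : g ^ 2 = 1 := orderOf_dvd_iff_pow_eq_one.1 this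
      have := congrArg (Subtype.val) h2
      simpa using this
    have hle : Nat.card E ≤ 2 := by
      have hinj : Function.Injective (fun g : E => ((g : QuaternionGroup 2) = 1 : Prop)) := by
        intro g g' hgg
        simp only [eq_iff_iff] at hgg
        apply Subtype.ext
        rcases hall g with h1 | h1 <;> rcases hall g' with h1' | h1'
        · rw [h1, h1']
        · exact absurd (hgg.1 h1) (by rw [h1']; decide)
        · exact absurd (hgg.2 h1') (by rw [h1]; decide)
        · rw [h1, h1']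
      have := Nat.card_le_card_of_injective _ hinj
      simpa using this
    omega
  · exact absurd rfl hj3

theorem q8_main {X : Type u} [Group X] (f : X ≃* QuaternionGroup 2) (F : FusionSystem (⊤ : Subgroup X))
    (hF : F.IsSaturated 2) : TwoClasses F ∧ F.IsRealizable 2 := by
  have : Fact (Nat.Prime 2) := ⟨Nat.prime_two⟩
  have hfin : Finite X := Finite.of_equiv _ f.symm.toEquiv
  have hX : IsPGroup 2 X := IsPGroup.of_card (n := 3) (by
    rw [Nat.card_congr f.toEquiv, Nat.card_eq_fintype_card, QuaternionGroup.card]; norm_num)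
  have hno : ∀ E : Subgroup X, ¬ F.IsEssential 2 E := by
    intro E hE
    obtain ⟨-, hne, -, hact⟩ := essential_basic F (isPGroup_top hX) hF hE
    have hmap : E.map f.toMonoidHom ≠ ⊤ := by
      intro htop
      apply hne
      rw [eq_top_iff]
      intro u _
      have : f u ∈ E.map f.toMonoidHom := by rw [htop]; trivial
      obtain ⟨v, hv, hvu⟩ := this
      have : v = u := f.injective hvu
      exact this ▸ hv
    have hcyc' := q8_isCyclic _ hmap
    have hcyc : IsCyclic E := (f.subgroupMap E).isCyclic.2 hcyc'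
    exact hact ((Cfsg.Agent.Lib.Helper87.DSQW.isPGroup_mulAut_of_isCyclic E (hX.to_subgroup E)).to_subgroup _)
  exact ⟨fun E₁ _ _ h₁ _ _ => absurd h₁ (hno E₁), isRealizable_of_no_essential (isPGroup_top hX) F hF hno⟩

/-! ### the four families over the whole group -/

theorem top_main {X : Type u} [Group X] [Finite X] (hX : IsPGroup 2 X) (F : FusionSystem (⊤ : Subgroup X))
    (hF : F.IsSaturated 2)
    (hshape : (∃ m : ℕ, 4 ≤ m ∧ Nonempty (X ≃* DihedralGroup m)) ∨
      (∃ m : ℕ, 2 ≤ m ∧ Nonempty (X ≃* QuaternionGroup m)) ∨ IsQuasiDihedral X ∨ IsWreathed X) :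
    TwoClasses F ∧ F.IsRealizable 2 := by
  rcases hshape with hD | ⟨m, hm, ⟨f⟩⟩ | hQD | hW
  · obtain ⟨x, y, n, η, δ, h⟩ := exists_mc_of_shape hX (Or.inl hD)
    exact mc_main h F hF
  · by_cases hm2 : m = 2
    · subst hm2
      exact q8_main f F hF
    · obtain ⟨x, y, n, η, δ, h⟩ := exists_mc_of_shape hX (Or.inr (Or.inl ⟨m, by omega, ⟨f⟩⟩))
      exact mc_main h F hF
  · obtain ⟨x, y, n, η, δ, h⟩ := exists_mc_of_shape hX (Or.inr (Or.inr hQD))
    exact mc_main h F hF
  · obtain ⟨n, x, y, z, h⟩ := Cfsg.Agent.Lib.Helper38.exists_isWr hW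
    exact Cfsg.Agent.Lib.Helper87.DSQWWr.wr_main_of_rigid h
      (fun E hE K₁ K₂ h₁ h₂ hs hK₁ hK₂ =>
        Cfsg.Agent.Lib.Helper86.DSQW.wrE_rigid h E hE K₁ K₂ h₁ h₂ hs hK₁ hK₂) F hF

/-! ### reduction to the whole group -/

theorem reduce_to_top {Ω : Type u} [Group Ω] {S : Subgroup Ω} [Finite S] (hS : IsPGroup 2 S)
    (F : FusionSystem S) (hF : F.IsSaturated 2)
    (H : ∀ F' : FusionSystem (⊤ : Subgroup ↥S), F'.IsSaturated 2 → TwoClasses F' ∧ F'.IsRealizable 2) :
    TwoClasses F ∧ F.IsRealizable 2 := by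
  have : Fact (Nat.Prime 2) := ⟨Nat.prime_two⟩
  obtain ⟨T', F', hcorr⟩ := exists_corr (Subgroup.topEquiv.symm : S ≃* (⊤ : Subgroup ↥S)) le_rfl F
  have hT' : T' = ⊤ := by rw [hcorr.eq_im, im_self]
  subst hT'
  have hF' := hcorr.isSaturated hS hF
  obtain ⟨h2c, hreal⟩ := H F' hF'
  refine ⟨?_, corr_isRealizable hcorr hreal⟩
  intro E₁ E₂ E₃ h₁ h₂ h₃
  have l₁ : E₁ ≤ S := h₁.1.1
  have l₂ : E₂ ≤ S := h₂.1.1
  have l₃ : E₃ ≤ S := h₃.1.1
  rcases h2c _ _ _ (corr_isEssential hS hcorr h₁) (corr_isEssential hS hcorr h₂)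
    (corr_isEssential hS hcorr h₃) with hc | hc | hc
  · exact Or.inl (corr_isConj_of_im hcorr l₁ l₂ hc)
  · exact Or.inr (Or.inl (corr_isConj_of_im hcorr l₁ l₃ hc))
  · exact Or.inr (Or.inr (corr_isConj_of_im hcorr l₂ l₃ hc))

end Cfsg.Agent.Lib.Helper84.DSQW
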