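/-
helper84: project DSQW, module [W-AE]: a saturated fusion system over a wreathed 2-group `X` whose homocyclic
subgroup `A` is active has the same automizer at `A` as the system of a suitable finite group (with a single class of
involutions) along a suitable isomorphism of `X` onto a Sylow 2-subgroup.
All declarations live in `Cfsg.Agent.Lib.Helper84.DSQW`.
-/
import Mathlib
import Cfsg.Agent.Lib.Helper84.DSQW.Defs
import Cfsg.Agent.Lib.Helper20.DSQWCand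
import Cfsg.Agent.Lib.Helper20.DSQWIso
import Cfsg.Agent.Lib.Helper54.DSQWPullback
import Cfsg.Agent.Lib.Helper65.DSQWWrNorm
import Cfsg.Agent.Lib.Helper87.FusionFully
import Cfsg.Agent.Lib.Helper98.DSQWPsl3
import Cfsg.Agent.Lib.Helper86.DSQW.WrEStr
import Cfsg.Agent.Lib.Helper13.DSQWAgx
import Cfsg.Agent.Lib.Helper20.DSQWAut
import Cfsg.Agent.Lib.Helper54.DSQWEssBasic
import Cfsg.Agent.Lib.Helper66.DSQWAutTop

set_option autoImplicit false
universe u

namespace Cfsg.Agent.Lib.Helper84.DSQW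

open Cfsg Cfsg.FusionSystem Cfsg.Agent.Lib.Helper84 Cfsg.Agent.Lib.Helper87 Cfsg.Agent.Lib.Helper38
open Cfsg.Agent.Lib.Helper65.DSQWWrA Cfsg.Agent.Lib.Helper20.DSQWCand Cfsg.Agent.Lib.Helper20.DSQWIso
open Cfsg.Agent.Lib.Helper54.DSQW

variable {X : Type*} [Group X] {x y z : X} {n : ℕ}

/-- [W-NORM] without the superfluous hypothesis (the proof of `Helper65.DSQWWrA.wr_norm` does not use it) -/
theorem wr_norm' (h : IsWr x y z n) (K : Subgroup (MulAut h.A)) (hU : autInducedBy ⊤ h.A ≤ K)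
    (hs : ∃ R : Sylow 2 K, (R : Subgroup K) = (autInducedBy ⊤ h.A).subgroupOf K) (hK : ¬ IsPGroup 2 K) :
    ∃ (x' : X) (σ : MulAut h.A), IsWr x' (z * x' * z⁻¹) z n ∧ σ ∈ K ∧ orderOf σ = 3 ∧
      ∀ u v : h.A, (u : X) = x' → (v : X) = z * x' * z⁻¹ →
        ((σ u : h.A) : X) = z * x' * z⁻¹ ∧ ((σ v : h.A) : X) = x'⁻¹ * (z * x' * z⁻¹)⁻¹ := by
  have T := tri h
  have hN := T.fixN_inf (tau h) (tau_x0 h) _ K (mem_autInduced h) hs
  obtain ⟨σ, hσK, hσ⟩ := T.exists_cycle K hK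
  obtain ⟨hord, hxy, hσy, hinf⟩ := T.norm_core (tau h) σ (tau_x0 h) (tau_y0 h) (tau_mul_tau h) K hN
    (hU (tau_mem h)) hσK hσ (w0 h) (tau_w0 h)
  have hy' : z * ((σ (w0 h) : h.A) : X) * z⁻¹ = ((tau h (σ (w0 h)) : h.A) : X) :=
    (tau_coe h _).symm
  refine ⟨((σ (w0 h) : h.A) : X), σ, ?_, hσK, hord, ?_⟩
  · refine ⟨h.hn, h.card, ?_, ?_, ?_, h.hz, rfl⟩
    · rw [Subgroup.orderOf_coe, MulEquiv.orderOf_eq, ← Subgroup.orderOf_coe, w0_coe, h.orderOf_xy]
    · rw [hy']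
      exact h.A_comm (σ (w0 h)).2 (tau h (σ (w0 h))).2
    · rw [Subgroup.eq_bot_iff_forall]
      intro g hg
      rw [Subgroup.mem_inf, Subgroup.mem_zpowers_iff, Subgroup.mem_zpowers_iff] at hg
      obtain ⟨⟨i, hi⟩, ⟨j, hj⟩⟩ := hg
      rw [hy'] at hj
      have hij : (σ (w0 h)) ^ i = (tau h (σ (w0 h))) ^ j := by
        apply Subtype.ext
        rw [Subgroup.coe_zpow, Subgroup.coe_zpow, hi, hj]
      have h1 := hinf i j hij
      rw [← hi, ← Subgroup.coe_zpow, h1]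
      rfl
  · intro u v hu hv
    have hu' : u = σ (w0 h) := Subtype.ext hu
    have hv' : v = tau h (σ (w0 h)) := Subtype.ext (by rw [hv, hy'])
    rw [hu', hv', hxy, hσy, hy']
    refine ⟨rfl, ?_⟩
    rw [Subgroup.coe_mul, Subgroup.coe_inv, Subgroup.coe_inv]

theorem wr_finite (h : IsWr x y z n) : Finite X :=
  Nat.finite_of_card_ne_zero (by rw [h.card]; positivity)

theorem wr_isPGroup (h : IsWr x y z n) : IsPGroup 2 X := IsPGroup.of_card h.card

/-- the homocyclic subgroup is fully normalized -/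
theorem wr_A_fullyNormalized (h : IsWr x y z n) (F : FusionSystem (⊤ : Subgroup X)) :
    F.IsFullyNormalized h.A := by
  have := wr_finite h
  refine ⟨le_top, fun Q _ => ?_⟩
  have hN : normalizerIn ⊤ h.A = ⊤ := by
    have := h.A_normal
    unfold normalizerIn
    rw [Subgroup.normalizer_eq_top_iff.2 this, inf_top_eq]
  rw [hN]
  exact Nat.card_le_card_of_injective (Subgroup.inclusion le_top) (Subgroup.inclusion_injective le_top)

/-- `Aut_X(A)` is a Sylow 2-subgroup of `Aut_F(A)` -/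
theorem wr_A_sylow (h : IsWr x y z n) (F : FusionSystem (⊤ : Subgroup X)) (hF : F.IsSaturated 2) :
    ∃ R : Sylow 2 (F.autGroup h.A),
      (R : Subgroup (F.autGroup h.A)) = (autInducedBy ⊤ h.A).subgroupOf (F.autGroup h.A) := by
  have : Fact (Nat.Prime 2) := ⟨Nat.prime_two⟩
  have := wr_finite h
  have hX : IsPGroup 2 ↥(⊤ : Subgroup X) := (wr_isPGroup h).to_subgroup ⊤
  exact (fullyAutomized_receptive_of_fullyNormalized F hX hF (wr_A_fullyNormalized h F)).1.2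

/-- the value of an automorphism of a subgroup `A` on `x'^i y'^j`, for elements `x'`, `y'` of `A` -/
theorem aut_al (A : Subgroup X) (σ : MulAut A) {x' y' a b : X}
    (ha : ∀ u : A, (u : X) = x' → ((σ u : A) : X) = a) (hb : ∀ v : A, (v : X) = y' → ((σ v : A) : X) = b)
    (hx' : x' ∈ A) (hy' : y' ∈ A) (u : A) (i j : ℤ) (hu : (u : X) = al x' y' i j) :
    ((σ u : A) : X) = al a b i j := by
  have : u = (⟨x', hx'⟩ : A) ^ i * (⟨y', hy'⟩ : A) ^ j := Subtype.ext (by rw [hu]; simp [al])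
  rw [this, map_mul, map_zpow, map_zpow, Subgroup.coe_mul, Subgroup.coe_zpow, Subgroup.coe_zpow,
    ha _ rfl, hb _ rfl]
  rfl

theorem wr_x_mem_A (h : IsWr x y z n) : x ∈ h.A := by
  have := h.al_mem_A 1 0
  simpa [al] using this

theorem wr_y_mem_A (h : IsWr x y z n) : y ∈ h.A := by
  have := h.al_mem_A 0 1
  simpa [al] using this

theorem wr_orderOf_x0 (h : IsWr x y z n) : orderOf (x ^ 2 ^ (n - 1)) = 2 := by
  have := (tri h).aa
  have h1 : (x0 h : h.A) ≠ 1 := (tri h).a1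
  rw [orderOf_eq_iff (by norm_num)]
  refine ⟨?_, ?_⟩
  · have h2 := congrArg (fun u : h.A => (u : X)) this
    simp only [Subgroup.coe_mul, x0_coe, Subgroup.coe_one] at h2
    rw [pow_two]; exact h2
  · intro m hm hm0
    have : m = 1 := by omega
    subst this
    rw [pow_one]
    intro h3
    apply h1
    apply Subtype.ext
    rw [x0_coe]; exact h3

theorem wr_orderOf_z0 (h : IsWr x y z n) : orderOf ((x * y) ^ 2 ^ (n - 1)) = 2 := by
  have := (tri h).cc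
  have h1 : (z0 h : h.A) ≠ 1 := (tri h).c1
  rw [orderOf_eq_iff (by norm_num)]
  refine ⟨?_, ?_⟩
  · have h2 := congrArg (fun u : h.A => (u : X)) this
    simp only [Subgroup.coe_mul, z0_coe, Subgroup.coe_one] at h2
    rw [pow_two]; exact h2
  · intro m hm hm0
    have : m = 1 := by omega
    subst this
    rw [pow_one]
    intro h3
    apply h1
    apply Subtype.ext
    rw [z0_coe]; exact h3


theorem wr_z0_central (h : IsWr x y z n) (s : X) : s * (x * y) ^ 2 ^ (n - 1) * s⁻¹ = (x * y) ^ 2 ^ (n - 1) := by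
  have hc : (x * y) ^ 2 ^ (n - 1) ∈ Subgroup.center X := by
    rw [Cfsg.Agent.Lib.Helper86.DSQW.z0_eq h, h.al_mem_center_iff]; simp
  rw [Subgroup.mem_center_iff] at hc
  rw [hc s]; group

theorem wr_x0_ne_z0 (h : IsWr x y z n) : x ^ 2 ^ (n - 1) ≠ (x * y) ^ 2 ^ (n - 1) := by
  intro h1
  have := (tri h).ca
  apply this
  apply Subtype.ext
  rw [x0_coe, z0_coe, h1]

/-- if the two involutions `x₀`, `z₀` of `A` are fused, then `A` is active -/
theorem wr_active_A_of_fused (h : IsWr x y z n) (F : FusionSystem (⊤ : Subgroup X)) (hF : F.IsSaturated 2)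
    (hf : F.IsConjElt (x ^ 2 ^ (n - 1)) ((x * y) ^ 2 ^ (n - 1))) : ¬ IsPGroup 2 (F.autGroup h.A) := by
  intro hP
  have : Fact (Nat.Prime 2) := ⟨Nat.prime_two⟩
  have hfin := wr_finite h
  have hX : IsPGroup 2 ↥(⊤ : Subgroup X) := (wr_isPGroup h).to_subgroup ⊤
  have key := Cfsg.Agent.Lib.Helper13.DSQW.closed_of_essential F hX hF {(x * y) ^ 2 ^ (n - 1)} ?_
  · obtain ⟨φ, hφ, hφx⟩ := hf
    have h1 := (key _ φ hφ ⟨x ^ 2 ^ (n - 1), Subgroup.mem_zpowers _⟩).2 (by rw [hφx]; rfl)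
    exact wr_x0_ne_z0 h h1
  · rintro P (rfl | hPe) α hα u
    · have hA : IsPGroup 2 (MulAut ↥(⊤ : Subgroup X)) :=
        (Cfsg.Agent.Lib.Helper20.DSQWAut.wr_isPGroup_mulAut h).of_equiv
          (MulAut.congr (Subgroup.topEquiv : ↥(⊤ : Subgroup X) ≃* X).symm)
      rw [Cfsg.Agent.Lib.Helper66.DSQWAutTop.autGroup_top_eq_inn F hX hF hA] at hα
      obtain ⟨s, rfl⟩ := hα
      show (u : X) = _ ↔ ((s * u * s⁻¹ : (⊤ : Subgroup X)) : X) = _
      constructor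
      · intro hu
        rw [Subgroup.coe_mul, Subgroup.coe_mul, Subgroup.coe_inv, hu]
        exact wr_z0_central h s
      · intro hu
        rw [Subgroup.coe_mul, Subgroup.coe_mul, Subgroup.coe_inv] at hu
        have h2 : (u : X) = (s : X)⁻¹ * (x * y) ^ 2 ^ (n - 1) * ((s : X)⁻¹)⁻¹ := by
          rw [← hu]; group
        rw [h2]
        exact wr_z0_central h _
    · obtain ⟨-, hne, hcen, hact⟩ := Cfsg.Agent.Lib.Helper54.DSQW.essential_basic F hX hF hPe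
      have hcen' : Subgroup.centralizer (P : Set X) ≤ P := by
        intro g hg
        exact hcen ⟨Subgroup.mem_top g, hg⟩
      have hAut : ¬ IsPGroup 2 (MulAut P) := fun hh => hact (hh.to_subgroup _)
      rcases wr_cand h P hne hcen' hAut with rfl | hE
      · exact absurd hP hact
      · have hfix := Cfsg.Agent.Lib.Helper86.DSQW.wrE_fix h P hE
        constructor
        · intro hu
          exact hfix α u hu
        · intro hu
          have := hfix α⁻¹ (α u) hu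
          rwa [MulAut.inv_apply_self] at this

/-- **[W-AE]** -/
theorem wr_exists_pb_all (h : IsWr x y z n) (F : FusionSystem (⊤ : Subgroup X)) (hF : F.IsSaturated 2)
    (hA : ¬ IsPGroup 2 (F.autGroup h.A)) :
    ∃ (G : Type) (_ : Group G) (_ : Finite G) (T : Sylow 2 G) (e : X ≃* (T : Subgroup G)),
      (∀ a b : G, orderOf a = 2 → orderOf b = 2 → IsConj a b) ∧ F.autGroup h.A = (pb e).autGroup h.A := by
  have hfin := wr_finite h
  -- the side of `X`
  obtain ⟨x', σ, h', hσK, hσ3, hσ⟩ := wr_norm' h (F.autGroup h.A) (autInducedBy_le_autGroup F le_top)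
    (wr_A_sylow h F hF) hA
  -- the side of the group
  obtain ⟨G, _, _, T, hW, hcard, hconj⟩ := Cfsg.Agent.Lib.Helper98.DSQW.exists_group_wr_all n h.hn
  obtain ⟨n₁, x₁, y₁, z₁, h₁⟩ := exists_isWr hW
  have hn₁ : n₁ = n := by
    have h2 := h₁.card
    rw [hcard] at h2
    have := Nat.pow_right_injective (le_refl 2) h2
    omega
  subst hn₁
  have hF₀ : (pb (MulEquiv.refl ↥(T : Subgroup G))).IsSaturated 2 := pb_isSaturated T _
  have hfA : (pb (MulEquiv.refl ↥(T : Subgroup G))).IsConjElt (x₁ ^ 2 ^ (n₁ - 1)) ((x₁ * y₁) ^ 2 ^ (n₁ - 1)) := by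
    rw [isConjElt_pb_iff]
    have ha : orderOf ((x₁ ^ 2 ^ (n₁ - 1) : (T : Subgroup G)) : G) = 2 := by
      rw [Subgroup.orderOf_coe]; exact wr_orderOf_x0 h₁
    have hb : orderOf (((x₁ * y₁) ^ 2 ^ (n₁ - 1) : (T : Subgroup G)) : G) = 2 := by
      rw [Subgroup.orderOf_coe]; exact wr_orderOf_z0 h₁
    obtain ⟨g, hg⟩ := isConj_iff.1 (hconj _ _ ha hb)
    exact ⟨g, hg⟩
  have hA₀ := wr_active_A_of_fused h₁ _ hF₀ hfA
  obtain ⟨x₁', σ₁, h₁', hσ₁K, hσ₁3, hσ₁⟩ := wr_norm' h₁ _ (autInducedBy_le_autGroup _ le_top)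
    (wr_A_sylow h₁ _ hF₀) hA₀
  obtain ⟨e, hex, hey, hez⟩ := wr_exists_equiv h' h₁'
  refine ⟨G, _, ‹_›, T, e, hconj, ?_⟩
  have hF' : (pb e).IsSaturated 2 := pb_isSaturated T e
  apply wrA_rigid h _ _ (autInducedBy_le_autGroup F le_top) (autInducedBy_le_autGroup (pb e) le_top)
    (wr_A_sylow h F hF) (wr_A_sylow h (pb e) hF') σ hσK ?_ hσ3
  rw [mem_autGroup_pb_iff]
  obtain ⟨g, hg⟩ := (mem_autGroup_pb_iff (MulEquiv.refl _) h₁.A σ₁).1 hσ₁K
  refine ⟨g, fun u => ?_⟩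
  have hAA' : h'.A = h.A := wr_A_eq h h'
  have hAA₁ : h₁'.A = h₁.A := wr_A_eq h₁ h₁'
  have hx'A : x' ∈ h.A := hAA' ▸ wr_x_mem_A h'
  have hy'A : z * x' * z⁻¹ ∈ h.A := hAA' ▸ wr_y_mem_A h'
  have hx₁'A : x₁' ∈ h₁.A := hAA₁ ▸ wr_x_mem_A h₁'
  have hy₁'A : z₁ * x₁' * z₁⁻¹ ∈ h₁.A := hAA₁ ▸ wr_y_mem_A h₁'
  have huA : (u : X) ∈ h'.A := by rw [hAA']; exact u.2
  obtain ⟨i, j, hu⟩ := (h'.mem_A _).1 huA
  have heu : e (u : X) = al x₁' (z₁ * x₁' * z₁⁻¹) i j := by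
    rw [hu]
    simp only [al, map_mul, map_zpow, hex, hey]
  have hmem : e (u : X) ∈ h₁.A := by rw [← hAA₁, heu]; exact h₁'.al_mem_A i j
  have h1 := hg ⟨e u, hmem⟩
  have h2 : ((σ u : h.A) : X) = al (z * x' * z⁻¹) (x'⁻¹ * (z * x' * z⁻¹)⁻¹) i j :=
    aut_al h.A σ (fun u hu => (hσ u ⟨_, hy'A⟩ hu rfl).1) (fun v hv => (hσ ⟨_, hx'A⟩ v rfl hv).2)
      hx'A hy'A u i j hu
  have h3 : ((σ₁ ⟨e u, hmem⟩ : h₁.A) : (T : Subgroup G)) =
      al (z₁ * x₁' * z₁⁻¹) (x₁'⁻¹ * (z₁ * x₁' * z₁⁻¹)⁻¹) i j :=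
    aut_al h₁.A σ₁ (fun u hu => (hσ₁ u ⟨_, hy₁'A⟩ hu rfl).1) (fun v hv => (hσ₁ ⟨_, hx₁'A⟩ v rfl hv).2)
      hx₁'A hy₁'A ⟨e u, hmem⟩ i j heu
  have h4 : e ((σ u : h.A) : X) = ((σ₁ ⟨e u, hmem⟩ : h₁.A) : (T : Subgroup G)) := by
    rw [h2, h3]
    simp only [al, map_mul, map_zpow, map_inv, hex, hey]
  rw [h4]
  exact h1

end Cfsg.Agent.Lib.Helper84.DSQW
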